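import Mathlib
import Groth.Agent.GitQuot.GrpdPullback
import Groth.Agent.EtaleBase.FpqcDescent
import Groth.Agent.FlatMor2.FlatComp

/-!
# The locus over which the source map of a slice of a groupoid is finite flat
-/

set_option autoImplicit false

universe u

open AlgebraicGeometry CategoryTheory CategoryTheory.Limits

noncomputable section

namespace Groth.GrpQDense

open Groth.GrpdBasic Groth.GrpdPullback

/-- Finite and flat morphisms. -/
abbrev FinFlat : MorphismProperty Scheme.{u} := @IsFinite ⊓ @Flat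

theorem finFlat_iff {X Y : Scheme.{u}} (f : X ⟶ Y) : FinFlat f ↔ IsFinite f ∧ Flat f := Iff.rfl

theorem finFlat_restrict_of_le {X Y : Scheme.{u}} (f : X ⟶ Y) {O O' : Y.Opens} (h : O ≤ O')
    (hf : FinFlat (f ∣_ O')) : FinFlat (f ∣_ O) := by
  have h1 : FinFlat (f ∣_ O' ∣_ (O'.ι ⁻¹ᵁ O)) := IsZariskiLocalAtTarget.restrict hf _
  rw [(@FinFlat).arrow_mk_iso_iff (morphismRestrictRestrict f O' (O'.ι ⁻¹ᵁ O))] at h1
  have e : O'.ι ''ᵁ (O'.ι ⁻¹ᵁ O) = O := by
    rw [Scheme.Hom.image_preimage_eq_opensRange_inf, Scheme.Opens.opensRange_ι, inf_eq_right.2 h]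
  rwa [(@FinFlat).arrow_mk_iso_iff (morphismRestrictEq f e)] at h1

/-- The largest open over which `f` is finite and flat. -/
def finLocus {X Y : Scheme.{u}} (f : X ⟶ Y) : Y.Opens := sSup {O | FinFlat (f ∣_ O)}

theorem le_finLocus {X Y : Scheme.{u}} {f : X ⟶ Y} {O : Y.Opens} (h : FinFlat (f ∣_ O)) :
    O ≤ finLocus f := le_sSup h

theorem finFlat_finLocus {X Y : Scheme.{u}} (f : X ⟶ Y) : FinFlat (f ∣_ finLocus f) := by
  let L := finLocus f
  refine IsZariskiLocalAtTarget.of_iSup_eq_top (P := @FinFlat)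
    (fun O : {O : Y.Opens // FinFlat (f ∣_ O)} => L.ι ⁻¹ᵁ O.1) ?_ fun O => ?_
  · refine top_le_iff.1 fun x _ => ?_
    obtain ⟨O, hO, hxO⟩ := TopologicalSpace.Opens.mem_sSup.1 x.2
    exact TopologicalSpace.Opens.mem_iSup.2 ⟨⟨O, hO⟩, hxO⟩
  · rw [(@FinFlat).arrow_mk_iso_iff (morphismRestrictRestrict f L (L.ι ⁻¹ᵁ O.1))]
    have e : L.ι ''ᵁ (L.ι ⁻¹ᵁ O.1) = O.1 := by
      rw [Scheme.Hom.image_preimage_eq_opensRange_inf, Scheme.Opens.opensRange_ι,
        inf_eq_right.2 (le_finLocus O.2)]
    rw [(@FinFlat).arrow_mk_iso_iff (morphismRestrictEq f e)]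
    exact O.2

variable {S : Scheme.{u}} (G : Grpd.GroupoidScheme S) {U' : Scheme.{u}} (g : U' ⟶ G.U)
  {T : Scheme.{u}} (a : T ⟶ G.R)

theorem cond_t : (pullback.snd (a ≫ G.t) (q G g) ≫ pullback.fst G.t g) ≫ G.s =
    (pullback.fst (a ≫ G.t) (q G g) ≫ a) ≫ G.t := by
  rw [Category.assoc, Category.assoc]; exact pullback.condition.symm

theorem cond_s : (pullback.snd (a ≫ G.s) (q G g) ≫ pullback.fst G.t g) ≫ G.s =
    ((pullback.fst (a ≫ G.s) (q G g) ≫ a) ≫ G.i) ≫ G.t := by
  rw [Category.assoc, Category.assoc, G.i_t, Category.assoc]; exact pullback.condition.symm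

/-- Transporting arrows with target in `U'` along an arrow `a`. -/
def moveS : pullback (a ≫ G.t) (q G g) ⟶ pullback (a ≫ G.s) (q G g) :=
  pullback.lift (pullback.fst _ _)
    (pullback.lift
      (comp G (pullback.snd _ _ ≫ pullback.fst G.t g) (pullback.fst (a ≫ G.t) (q G g) ≫ a)
        (cond_t G g a))
      (pullback.snd _ _ ≫ pullback.snd G.t g)
      (by rw [comp_t, Category.assoc, pullback.condition, Category.assoc]))
    (by rw [pullback.lift_fst_assoc, comp_s, Category.assoc])

/-- The inverse of `moveS`. -/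
def moveT : pullback (a ≫ G.s) (q G g) ⟶ pullback (a ≫ G.t) (q G g) :=
  pullback.lift (pullback.fst _ _)
    (pullback.lift
      (comp G (pullback.snd _ _ ≫ pullback.fst G.t g) ((pullback.fst (a ≫ G.s) (q G g) ≫ a) ≫ G.i)
        (cond_s G g a))
      (pullback.snd _ _ ≫ pullback.snd G.t g)
      (by rw [comp_t, Category.assoc, pullback.condition, Category.assoc]))
    (by rw [pullback.lift_fst_assoc, comp_s, Category.assoc, Category.assoc, G.i_s])

@[reassoc]
theorem moveS_fst : moveS G g a ≫ pullback.fst _ _ = pullback.fst _ _ := pullback.lift_fst _ _ _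

@[reassoc]
theorem moveT_fst : moveT G g a ≫ pullback.fst _ _ = pullback.fst _ _ := pullback.lift_fst _ _ _

theorem moveS_moveT : moveS G g a ≫ moveT G g a = 𝟙 _ := by
  refine pullback.hom_ext (by rw [Category.assoc, moveT_fst, moveS_fst, Category.id_comp]) ?_
  rw [Category.id_comp, Category.assoc, moveT, pullback.lift_snd]
  refine pullback.hom_ext ?_ ?_
  · rw [Category.assoc, pullback.lift_fst, precomp_comp]
    refine (comp_congr G _ (?_ : _ = comp G (pullback.snd _ _ ≫ pullback.fst G.t g)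
      (pullback.fst (a ≫ G.t) (q G g) ≫ a) (cond_t G g a))
      (?_ : _ = (pullback.fst (a ≫ G.t) (q G g) ≫ a) ≫ G.i)).trans
      (comp_cancel_inv G _ _ (cond_t G g a))
    · rw [moveS, pullback.lift_snd_assoc, pullback.lift_fst]
    · simp only [← Category.assoc, moveS_fst]
  · rw [Category.assoc, pullback.lift_snd, moveS, pullback.lift_snd_assoc, pullback.lift_snd]

theorem moveT_moveS : moveT G g a ≫ moveS G g a = 𝟙 _ := by
  refine pullback.hom_ext (by rw [Category.assoc, moveS_fst, moveT_fst, Category.id_comp]) ?_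
  rw [Category.id_comp, Category.assoc, moveS, pullback.lift_snd]
  refine pullback.hom_ext ?_ ?_
  · rw [Category.assoc, pullback.lift_fst, precomp_comp]
    refine (comp_congr G _ (?_ : _ = comp G (pullback.snd _ _ ≫ pullback.fst G.t g)
      ((pullback.fst (a ≫ G.s) (q G g) ≫ a) ≫ G.i) (cond_s G g a))
      (?_ : _ = pullback.fst (a ≫ G.s) (q G g) ≫ a)).trans
      (comp_inv_cancel G _ _ (cond_s G g a))
    · rw [moveT, pullback.lift_snd_assoc, pullback.lift_fst]
    · simp only [← Category.assoc, moveT_fst]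
  · rw [Category.assoc, pullback.lift_snd, moveT, pullback.lift_snd_assoc, pullback.lift_snd]

/-- The pullbacks of `q` along the two ends of a family of arrows are isomorphic. -/
theorem pullback_q_iff (P : MorphismProperty Scheme.{u}) [P.RespectsIso] :
    P (pullback.fst (a ≫ G.t) (q G g)) ↔ P (pullback.fst (a ≫ G.s) (q G g)) := by
  have : IsIso (moveS G g a) := ⟨moveT G g a, moveS_moveT G g a, moveT_moveS G g a⟩
  conv_lhs => rw [← moveS_fst G g a]
  exact P.cancel_left_of_respectsIso _ _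

theorem range_q_invariant (r : G.R) :
    G.s r ∈ Set.range (q G g) ↔ G.t r ∈ Set.range (q G g) := by
  have hE := orbit_equivalence G
  have key : ∀ x : G.U, x ∈ Set.range (q G g) ↔ ∃ y : U', ∃ r' : G.R, G.t r' = g y ∧ G.s r' = x := by
    intro x
    constructor
    · rintro ⟨v, rfl⟩
      refine ⟨pullback.snd G.t g v, pullback.fst G.t g v, ?_, rfl⟩
      rw [← Scheme.Hom.comp_apply, pullback.condition, Scheme.Hom.comp_apply]
    · rintro ⟨y, r', h1, h2⟩
      obtain ⟨v, hv, -⟩ := Scheme.Pullback.exists_preimage_pullback r' y h1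
      exact ⟨v, by rw [Scheme.Hom.comp_apply, hv, h2]⟩
  rw [key, key]
  refine exists_congr fun y => ⟨fun h => hE.trans h (hE.symm ⟨r, rfl, rfl⟩), fun h => hE.trans h ⟨r, rfl, rfl⟩⟩

/-- The finite flat locus of `q` is invariant. -/
theorem finLocus_invariant [IsNoetherian G.R] [IsNoetherian G.U] [Flat G.t] [LocallyOfFinitePresentation G.t]
    (r : G.R) : G.s r ∈ finLocus (q G g) ↔ G.t r ∈ finLocus (q G g) := by
  suffices h : ∀ r : G.R, G.s r ∈ finLocus (q G g) → G.t r ∈ finLocus (q G g) by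
    refine ⟨h r, fun hr => ?_⟩
    have := h (G.i r) (by rwa [← Scheme.Hom.comp_apply, G.i_s])
    rwa [← Scheme.Hom.comp_apply, G.i_t] at this
  intro r hr
  let L := finLocus (q G g)
  let A := G.s ⁻¹ᵁ L
  let L' : G.U.Opens := ⟨⇑G.t '' A, G.t.isOpenMap _ A.2⟩
  refine le_finLocus (O := L') ?_ ⟨r, hr, rfl⟩
  have hA : A ≤ G.t ⁻¹ᵁ L' := fun x hx => ⟨x, hx, rfl⟩
  let τ : A.toScheme ⟶ L'.toScheme := G.t.resLE L' A hA
  have hτι : τ ≫ L'.ι = A.ι ≫ G.t := Scheme.Hom.resLE_comp_ι _ _
  have : Surjective τ := ⟨fun y => by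
    obtain ⟨x, hx, hxy⟩ := y.2
    refine ⟨⟨x, hx⟩, Subtype.ext ?_⟩
    refine Eq.trans ?_ hxy
    exact congr(($hτι).base ⟨x, hx⟩)⟩
  have : Flat τ := by
    have : Flat (τ ≫ L'.ι) := hτι ▸ inferInstance
    exact MorphismProperty.of_postcomp (W := @Flat) (W' := @IsOpenImmersion) τ L'.ι (inferInstanceAs (IsOpenImmersion L'.ι)) ‹_›
  have : QuasiCompact τ := by
    have : CompactSpace A.toScheme := isCompact_iff_compactSpace.mp (TopologicalSpace.NoetherianSpace.isCompact _)
    have : IsLocallyNoetherian L'.toScheme := isLocallyNoetherian_of_isOpenImmersion L'.ι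
    infer_instance
  -- finite flatness after base change to `A`
  have hS : FinFlat (pullback.fst (A.ι ≫ G.s) (q G g)) := by
    have h := ((IsPullback.of_hasPullback (G.s ∣_ L) (q G g ∣_ L)).flip.paste_horiz
      (isPullback_morphismRestrict (q G g) L).flip).flip
    have h' : FinFlat (pullback.fst (G.s ∣_ L) (q G g ∣_ L)) :=
      MorphismProperty.pullback_fst _ _ (finFlat_finLocus (q G g))
    rw [← (@FinFlat).cancel_left_of_respectsIso
      (h.isoPullback.inv) (pullback.fst (G.s ∣_ L) (q G g ∣_ L))] at h'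
    rw [IsPullback.isoPullback_inv_fst] at h'
    have e : pullback.fst (A.ι ≫ G.s) (q G g) = (pullback.congrHom (morphismRestrict_ι G.s L).symm rfl).hom ≫
        pullback.fst (G.s ∣_ L ≫ L.ι) (q G g) := by
      rw [pullback.congrHom_hom]
      exact ((pullback.lift_fst _ _ _).trans (Category.comp_id _)).symm
    rw [e, (@FinFlat).cancel_left_of_respectsIso]
    exact h'
  have hT := (pullback_q_iff G g A.ι FinFlat).2 hS
  have hT' : FinFlat (pullback.fst τ (q G g ∣_ L')) := by
    have h := ((IsPullback.of_hasPullback τ (q G g ∣_ L')).flip.paste_horiz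
      (isPullback_morphismRestrict (q G g) L').flip).flip
    rw [← h.isoPullback_hom_fst, (@FinFlat).cancel_left_of_respectsIso]
    have e : pullback.fst (τ ≫ L'.ι) (q G g) =
        (pullback.congrHom hτι rfl).hom ≫ pullback.fst (A.ι ≫ G.t) (q G g) := by
      rw [pullback.congrHom_hom]
      exact ((pullback.lift_fst _ _ _).trans (Category.comp_id _)).symm
    rw [e, (@FinFlat).cancel_left_of_respectsIso]
    exact hT
  refine ⟨?_, ?_⟩
  · exact MorphismProperty.of_pullback_fst_of_descendsAlong (P := @IsFinite) (Q := Groth.EtaleBase.Fpqc)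
      (f := τ) (g := q G g ∣_ L') ⟨⟨‹_›, ‹_›⟩, ‹_›⟩ hT'.1
  · have : Flat (pullback.fst τ (q G g ∣_ L')) := hT'.2
    have : Flat (pullback.fst τ (q G g ∣_ L') ≫ τ) := inferInstance
    rw [pullback.condition] at this
    exact Groth.FlatMor2.flat_of_comp_surjective (pullback.snd τ (q G g ∣_ L')) _

end Groth.GrpQDense
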