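import Mathlib
import Groth.Agent.GrpQDense.Locus
import Groth.Agent.S1936
import Groth.Agent.S7508
import Groth.Agent.Flatmor4.CMComp
import Groth.Agent.CMMor.FibreCM
import Groth.Agent.PropsBasic.GenericFinite
import Groth.Agent.SchemeMorphisms.Points

/-!
# A finite flat slice near every maximal point
-/

set_option autoImplicit false

universe u

open AlgebraicGeometry CategoryTheory CategoryTheory.Limits TopologicalSpace

noncomputable section

namespace Groth.GrpQDense

open Groth.GrpdPullback Groth.PropsBasic2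

variable {S : Scheme.{u}} (G : Grpd.GroupoidScheme S)

/-- Every nonempty open meets the Cohen–Macaulay open of objects. -/
theorem meets_CM [Flat G.s] [LocallyOfFiniteType G.s] (U₁ : G.U.Opens)
    (hU₁ : (G.t ⁻¹ᵁ U₁ : Set G.R) = {r | Grpd.IsCMAt G.s r}) (O : G.U.Opens) {x : G.U} (hx : x ∈ O) :
    ∃ y, y ∈ O ∧ y ∈ U₁ := by
  let r := G.e x
  have hr : G.t r ∈ O := by
    rw [← Scheme.Hom.comp_apply, G.e_t]; exact hx
  obtain ⟨z₀, hz₀⟩ : r ∈ Set.range (G.s.fiberι (G.s r)) := by
    rw [Scheme.Hom.range_fiberι]; rfl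
  obtain ⟨η, hη, hηz⟩ := exists_genericPoint_specializes z₀
  have hmax := (closure_mem_irreducibleComponents_iff η).mp hη
  let r₀ := G.s.fiberι (G.s r) η
  have hCM : Grpd.IsCMAt G.s r₀ := by
    refine (Groth.Flatmor4.isCMAt_iff _ _).1 ?_
    rw [Groth.CMMor.isCMAt_iff]
    exact (Groth.CMMor.isCM_fiberStalk_iff G.s (G.s r) η).mpr
      (Groth.CMMor.isCM_stalk_of_maximal G.s (G.s r) η hmax)
  have hsp : r₀ ⤳ r := hz₀ ▸ hηz.map (G.s.fiberι (G.s r)).continuous
  exact ⟨G.t r₀, (hsp.map G.t.continuous).mem_open O.2 hr,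
    (Set.ext_iff.1 hU₁ r₀).2 hCM⟩

/-- Restriction to the Cohen–Macaulay open: the hypotheses of the slicing theorem. -/
theorem isCMAt_restrict {X Y : Scheme.{u}} (f : X ⟶ Y) [LocallyOfFiniteType f] {X' : Scheme.{u}}
    (j : X' ⟶ X) [IsOpenImmersion j] (V : Y.Opens) (f' : X' ⟶ V.toScheme) [Flat f']
    (h : j ≫ f = f' ≫ V.ι) (x : X') (hx : Grpd.IsCMAt f (j x)) : Grpd.IsCMAt f' x := by
  replace hx : MoreMor.IsCMAt f (j x) := (Groth.Flatmor4.isCMAt_iff _ _).2 hx
  refine (Groth.Flatmor4.isCMAt_iff _ _).1 ?_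
  refine (Groth.Flatmor4.isCMAt_of_comp f' V.ι x ?_ ?_ (Flat.stalkMap f' x)).1
  · have : LocallyOfFiniteType (V.ι.fiberToSpecResidueField (V.ι (f' x))) :=
      inferInstanceAs (LocallyOfFiniteType (pullback.snd V.ι _))
    exact LocallyOfFiniteType.isLocallyNoetherian (V.ι.fiberToSpecResidueField (V.ι (f' x)))
  · rw [← h, Groth.CMMor.isCMAt_openImmersion_comp]
    exact hx

/-- `j` of a pulled back groupoid, compared with `j` of the groupoid. -/
theorem pullback_j_comp {U' : Scheme.{u}} (v : U' ⟶ G.U) :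
    pullback.lift (f := v ≫ G.pU) (g := v ≫ G.pU) (t' G v) (s' G v)
        (by rw [← Category.assoc, ← arrow_t, ← Category.assoc, ← arrow_s, Category.assoc, Category.assoc,
          G.t_over, G.s_over]) ≫
      pullback.map (v ≫ G.pU) (v ≫ G.pU) G.pU G.pU v v (𝟙 S) (Category.comp_id _) (Category.comp_id _) =
      arrow G v ≫ G.j := by
  apply pullback.hom_ext
  · rw [Category.assoc, pullback.lift_fst, pullback.lift_fst_assoc, Category.assoc, Grpd.GroupoidScheme.j,
      pullback.lift_fst, arrow_t]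
  · rw [Category.assoc, pullback.lift_snd, pullback.lift_snd_assoc, Category.assoc, Grpd.GroupoidScheme.j,
      pullback.lift_snd, arrow_s]

variable {U₀ U' : Scheme.{u}} (v : U₀ ⟶ G.U) (g : U' ⟶ U₀)

/-- The part of `q` over the objects of a restriction, as the source map of the restriction. -/
def sliceHom : pullback (q G (g ≫ v)) v ⟶ pullback g (t' G v) :=
  pullback.lift (pullback.fst _ _ ≫ pullback.snd G.t (g ≫ v))
    (GrpdPullback.mk (pullback.fst _ _ ≫ pullback.fst G.t (g ≫ v))
      (pullback.fst _ _ ≫ pullback.snd G.t (g ≫ v) ≫ g) (pullback.snd _ _)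
      (by simp only [Category.assoc, pullback.condition])
      (by rw [Category.assoc]; exact pullback.condition))
    (by rw [mk_t, Category.assoc])

/-- Inverse of `sliceHom`. -/
def sliceInv : pullback g (t' G v) ⟶ pullback (q G (g ≫ v)) v :=
  pullback.lift (pullback.lift (pullback.snd g (t' G v) ≫ arrow G v) (pullback.fst g (t' G v))
    (by rw [Category.assoc, arrow_t, ← pullback.condition_assoc]))
    (pullback.snd g (t' G v) ≫ s' G v)
    (by rw [pullback.lift_fst_assoc, Category.assoc, arrow_s, Category.assoc])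

instance isIso_sliceHom : IsIso (sliceHom G v g) := by
  refine ⟨sliceInv G v g, ?_, ?_⟩
  · apply pullback.hom_ext
    · apply pullback.hom_ext
      · simp only [sliceInv, Category.assoc, pullback.lift_fst, sliceHom,
          pullback.lift_snd_assoc, mk_arrow, Category.id_comp]
      · simp only [sliceInv, Category.assoc, pullback.lift_snd, sliceHom,
          pullback.lift_fst, Category.id_comp]
    · simp only [sliceInv, Category.assoc, pullback.lift_snd, sliceHom, pullback.lift_snd_assoc, mk_s,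
        Category.id_comp]
  · apply pullback.hom_ext
    · simp only [sliceHom, Category.assoc, pullback.lift_fst, sliceInv, pullback.lift_fst_assoc,
        pullback.lift_snd, Category.id_comp]
    · refine GrpdPullback.ext ?_ ?_ ?_
      · simp only [sliceHom, Category.assoc, pullback.lift_snd_assoc, mk_arrow, sliceInv,
          pullback.lift_fst_assoc, pullback.lift_fst, Category.id_comp]
      · simp only [sliceHom, Category.assoc, pullback.lift_snd_assoc, mk_t, sliceInv,
          pullback.lift_fst_assoc, Category.id_comp, pullback.condition]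
      · simp only [sliceHom, Category.assoc, pullback.lift_snd_assoc, mk_s, sliceInv,
          pullback.lift_snd, Category.id_comp]

theorem sliceHom_snd : sliceHom G v g ≫ pullback.snd g (t' G v) ≫ s' G v = pullback.snd _ _ := by
  rw [sliceHom, pullback.lift_snd_assoc, mk_s]

/-- A slice of the groupoid which is finite flat over a neighbourhood of a given maximal point. -/
theorem exists_slice [IsNoetherian G.R] [IsNoetherian G.U] [Flat G.s] [LocallyOfFinitePresentation G.s]
    [Flat G.t] [LocallyOfFinitePresentation G.t] [LocallyQuasiFinite G.j] [LocallyOfFiniteType G.j]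
    (η : G.U) (hη : closure {η} ∈ irreducibleComponents G.U) :
    ∃ (U' : Scheme.{u}) (_ : IsAffine U') (g : U' ⟶ G.U),
      IsImmersion g ∧ η ∈ finLocus (q G g) ∧ η ∈ Set.range (q G g) := by
  obtain ⟨U₁, hU₁, hU₁', -, -⟩ := Groth.Agent.S1936.result S G
  -- a closed point of an open in the component of `η` inside `U₁`
  have hfin := TopologicalSpace.NoetherianSpace.finite_irreducibleComponents (α := G.U)
  let C : Set G.U := ⋃ c ∈ irreducibleComponents G.U \ {closure {η}}, c
  have hC : IsClosed C :=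
    hfin.sdiff.isClosed_biUnion fun c hc => isClosed_of_mem_irreducibleComponents c hc.1
  have hηC : η ∉ C := by
    simp only [C, Set.mem_iUnion, not_exists]
    intro c hc hmem
    have h' := (isClosed_of_mem_irreducibleComponents c hc.1).closure_subset_iff.mpr
      (Set.singleton_subset_iff.mpr hmem)
    exact hc.2 ((hη.2 hc.1.1 h').antisymm h')
  have hCη : ∀ y, y ∉ C → η ⤳ y := fun y hy => by
    obtain ⟨c, hc, hyc⟩ : ∃ c ∈ irreducibleComponents G.U, y ∈ c :=
      ⟨irreducibleComponent y, irreducibleComponent_mem_irreducibleComponents y, mem_irreducibleComponent⟩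
    by_cases h : c = closure {η}
    · exact specializes_iff_mem_closure.mpr (h ▸ hyc)
    · exact absurd (Set.mem_biUnion (Set.mem_sdiff_singleton.mpr ⟨hc, h⟩) hyc) hy
  let O : G.U.Opens := ⟨Cᶜ, hC.isOpen_compl⟩
  obtain ⟨y, hyO, hy₁⟩ := meets_CM G U₁ hU₁ O hηC
  have hη₁ : η ∈ U₁ := (hCη y hyO).mem_open U₁.2 hy₁
  let O₁ : U₁.toScheme.Opens := U₁.ι ⁻¹ᵁ O
  have : CompactSpace U₁.toScheme :=
    isCompact_iff_compactSpace.mp (TopologicalSpace.NoetherianSpace.isCompact _)
  have : IsLocallyNoetherian U₁.toScheme := isLocallyNoetherian_of_isOpenImmersion U₁.ι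
  have : IsNoetherian U₁.toScheme := ⟨⟩
  obtain ⟨u₁, hu₁O, hu₁⟩ : ∃ u₁ : U₁.toScheme, u₁ ∈ O₁ ∧ LocallyOfFiniteType (U₁.toScheme.fromSpecResidueField u₁) := by
    have hne : (O₁ : Set U₁.toScheme).Nonempty := ⟨⟨η, hη₁⟩, hηC⟩
    have : CompactSpace O₁ := isCompact_iff_compactSpace.mp (TopologicalSpace.NoetherianSpace.isCompact _)
    have : Nonempty O₁ := hne.to_subtype
    obtain ⟨v, -, hv⟩ := isClosed_univ.exists_closed_singleton (X := O₁) Set.univ_nonempty
    exact ⟨v.1, v.2, Groth.SchemeMorphisms.locallyOfFiniteType_fromSpecResidueField_of_isClosed v.1 O₁ v.2 hv⟩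
  -- the restricted groupoid
  let G₁ := grpd G U₁.ι
  have hA : IsOpenImmersion (arrow G U₁.ι) := by unfold arrow; infer_instance
  have : LocallyOfFinitePresentation (q G U₁.ι) := inferInstance
  have : Flat (q G U₁.ι) := inferInstance
  have hsflat : Flat (s' G U₁.ι) := MorphismProperty.pullback_snd (P := @Flat) _ _ inferInstance
  have htflat : Flat (t' G U₁.ι) := by
    have : Flat (pullback.snd G.t U₁.ι) := MorphismProperty.pullback_snd (P := @Flat) _ _ inferInstance
    unfold t'; infer_instance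
  have : LocallyOfFinitePresentation G₁.s :=
    MorphismProperty.pullback_snd (P := @LocallyOfFinitePresentation) _ _ inferInstance
  have : LocallyOfFinitePresentation G₁.t := by
    have : LocallyOfFinitePresentation (pullback.snd G.t U₁.ι) :=
      MorphismProperty.pullback_snd (P := @LocallyOfFinitePresentation) _ _ inferInstance
    show LocallyOfFinitePresentation (t' G U₁.ι)
    unfold t'; infer_instance
  have hmem : ∀ r : R' G U₁.ι, G.t (arrow G U₁.ι r) ∈ U₁ ∧ G.s (arrow G U₁.ι r) ∈ U₁ := fun r => by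
    constructor
    · rw [← Scheme.Hom.comp_apply, arrow_t, Scheme.Hom.comp_apply]; exact (t' G U₁.ι r).2
    · rw [← Scheme.Hom.comp_apply, arrow_s, Scheme.Hom.comp_apply]; exact (s' G U₁.ι r).2
  have hs : ∀ r : G₁.R, Grpd.IsCMAt G₁.s r := fun r =>
    isCMAt_restrict G.s (arrow G U₁.ι) U₁ (s' G U₁.ι) (arrow_s G U₁.ι) r
      ((Set.ext_iff.1 hU₁ _).1 (hmem r).1)
  have ht : ∀ r : G₁.R, Grpd.IsCMAt G₁.t r := fun r =>
    isCMAt_restrict G.t (arrow G U₁.ι) U₁ (t' G U₁.ι) (arrow_t G U₁.ι) r
      ((Set.ext_iff.1 hU₁' _).1 (hmem r).2)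
  let M : pullback G₁.pU G₁.pU ⟶ pullback G.pU G.pU :=
    pullback.map _ _ _ _ U₁.ι U₁.ι (𝟙 S) (Category.comp_id _) (Category.comp_id _)
  have hM : G₁.j ≫ M = arrow G U₁.ι ≫ G.j := pullback_j_comp G U₁.ι
  have : LocallyQuasiFinite G₁.j := by
    have : LocallyQuasiFinite (G₁.j ≫ M) := by rw [hM]; infer_instance
    exact LocallyQuasiFinite.of_comp G₁.j M
  have : LocallyOfFiniteType G₁.j := by
    have : LocallyOfFiniteType (G₁.j ≫ M) := by rw [hM]; infer_instance
    exact locallyOfFiniteType_of_comp G₁.j M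
  have : LocallyOfFiniteType G₁.stabilizerToU := MorphismProperty.pullback_snd (P := @LocallyOfFiniteType) _ _ ‹_›
  have : LocallyQuasiFinite G₁.stabilizerToU := MorphismProperty.pullback_snd (P := @LocallyQuasiFinite) _ _ ‹_›
  obtain ⟨U', hU', g, u', himm, -, hgu, ⟨hflat, hlfp, hlft, hlqf⟩, -, -⟩ :=
    Groth.Agent.S7508.result S G₁ hs ht u₁ hu₁
  let g₀ : U' ⟶ G.U := g ≫ U₁.ι
  refine ⟨U', hU', g₀, inferInstance, ?_⟩
  -- the part of `q` over `U₁` is the map given by the slicing theorem
  let e := (isPullback_morphismRestrict (q G g₀) U₁).flip.isoPullback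
  let F := q G g₀ ∣_ U₁
  have hF : F = e.hom ≫ sliceHom G U₁.ι g ≫ pullback.snd g (t' G U₁.ι) ≫ s' G U₁.ι := by
    rw [sliceHom_snd]
    exact (IsPullback.isoPullback_hom_snd _).symm
  have hflat' : Flat (pullback.snd g (t' G U₁.ι) ≫ s' G U₁.ι) := hflat
  have hlqf' : LocallyQuasiFinite (pullback.snd g (t' G U₁.ι) ≫ s' G U₁.ι) := hlqf
  have hlft' : LocallyOfFiniteType (pullback.snd g (t' G U₁.ι) ≫ s' G U₁.ι) := hlft
  have hFflat : Flat F := hF ▸ inferInstance
  have hFlqf : LocallyQuasiFinite F := hF ▸ inferInstance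
  have hFlft : LocallyOfFiniteType F := hF ▸ inferInstance
  have : QuasiCompact g₀ := inferInstance
  have : LocallyOfFiniteType g₀ := inferInstance
  have : QuasiCompact (pullback.fst G.t g₀) := MorphismProperty.pullback_fst (P := @QuasiCompact) _ _ ‹_›
  have : LocallyOfFiniteType (pullback.fst G.t g₀) := MorphismProperty.pullback_fst (P := @LocallyOfFiniteType) _ _ ‹_›
  have : IsLocallyNoetherian (V G g₀) := LocallyOfFiniteType.isLocallyNoetherian (pullback.fst G.t g₀)
  have : CompactSpace (V G g₀) := QuasiCompact.compactSpace_of_compactSpace (pullback.fst G.t g₀)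
  have : IsNoetherian (V G g₀) := ⟨⟩
  have : CompactSpace ((q G g₀) ⁻¹ᵁ U₁).toScheme :=
    isCompact_iff_compactSpace.mp (TopologicalSpace.NoetherianSpace.isCompact _)
  have : IsLocallyNoetherian ((q G g₀) ⁻¹ᵁ U₁).toScheme :=
    isLocallyNoetherian_of_isOpenImmersion ((q G g₀) ⁻¹ᵁ U₁).ι
  have : IsNoetherian ((q G g₀) ⁻¹ᵁ U₁).toScheme := ⟨⟩
  have : QuasiCompact F := inferInstance
  have hgen : ∀ x, closure {x} ∈ irreducibleComponents ((q G g₀) ⁻¹ᵁ U₁).toScheme ↔
      closure {F x} ∈ irreducibleComponents U₁.toScheme := by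
    intro x
    rw [closure_mem_irreducibleComponents_iff, closure_mem_irreducibleComponents_iff]
    constructor
    · intro h z hz
      obtain ⟨w, hw, rfl⟩ := (Flat.generalizingMap F) hz
      rw [h w hw]
    · intro h w hw
      exact (F.isDiscrete_preimage_singleton (F x)).eq_of_specializes hw (h _ (hw.map F.continuous)) rfl
  have hη₁' : closure {(⟨η, hη₁⟩ : U₁.toScheme)} ∈ irreducibleComponents U₁.toScheme := by
    refine (closure_mem_irreducibleComponents_iff (α := U₁.toScheme) ⟨η, hη₁⟩).mpr ?_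
    intro z hz
    exact Subtype.ext ((closure_mem_irreducibleComponents_iff η).mp hη _ (hz.map continuous_subtype_val))
  obtain ⟨V₁, -, hηV, hVfin⟩ := Groth.PropsBasic.GenericFinite.exists_affine_nhd_isFinite_of_gen F hη₁'
    TopologicalSpace.NoetherianSpace.finite_irreducibleComponents
    TopologicalSpace.NoetherianSpace.finite_irreducibleComponents hgen
  refine ⟨le_finLocus (O := U₁.ι ''ᵁ V₁) ?_ ⟨⟨η, hη₁⟩, hηV, rfl⟩, ?_⟩
  · rw [← (@FinFlat).arrow_mk_iso_iff (morphismRestrictRestrict (q G g₀) U₁ V₁)]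
    exact ⟨hVfin, IsZariskiLocalAtTarget.restrict (P := @Flat) hFflat V₁⟩
  · -- the image is open and contains the closed point
    have hu : U₁.ι u₁ ∈ Set.range (q G g₀) := by
      obtain ⟨v, hv, -⟩ := Scheme.Pullback.exists_preimage_pullback (G.e (U₁.ι u₁)) u'
        (f := G.t) (g := g₀) (by
          rw [← Scheme.Hom.comp_apply, G.e_t, ← hgu]; rfl)
      refine ⟨v, ?_⟩
      rw [Scheme.Hom.comp_apply, hv, ← Scheme.Hom.comp_apply, G.e_s]; rfl
    obtain ⟨v, hv⟩ := hu
    have hop := (Scheme.Hom.isOpenMap F).isOpen_range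
    have hvU : v ∈ (q G g₀) ⁻¹ᵁ U₁ := by show q G g₀ v ∈ U₁; rw [hv]; exact u₁.2
    have hFu : u₁ ∈ Set.range F := ⟨⟨v, hvU⟩, Subtype.ext (by rw [morphismRestrict_base]; exact hv)⟩
    have hs' : (⟨η, hη₁⟩ : U₁.toScheme) ⤳ u₁ :=
      Topology.IsInducing.subtypeVal.specializes_iff.mp (hCη u₁.1 hu₁O)
    obtain ⟨w, hw⟩ := hs'.mem_open hop hFu
    refine ⟨w.1, ?_⟩
    have := congrArg Subtype.val hw
    rwa [morphismRestrict_base] at this

end Groth.GrpQDense
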