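import Mathlib
import Groth.Agent.GrpQDense.Slice
import Groth.Agent.GitQuot.GrpdRestrict
import Groth.Agent.GitQuot.FiniteAffine

/-!
# A quasi-section over a dense invariant open
-/

set_option autoImplicit false

universe u

open AlgebraicGeometry CategoryTheory CategoryTheory.Limits TopologicalSpace

noncomputable section

namespace Groth.GrpQDense

open Groth.GrpdBasic Groth.GrpdPullback Groth.PropsBasic2

/-- An open immersion on the source containing the part over `W` does not change the restriction to `W`. -/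
theorem restrict_iff_of_range {X X' Y : Scheme.{u}} (P : MorphismProperty Scheme.{u}) [P.RespectsIso]
    (Φ : X ⟶ X') [IsOpenImmersion Φ] (f' : X' ⟶ Y) (f : X ⟶ Y) (h : Φ ≫ f' = f) (W : Y.Opens)
    (hW : ∀ x, f' x ∈ W → x ∈ Set.range Φ) : P (f ∣_ W) ↔ P (f' ∣_ W) := by
  subst h
  have : IsOpenImmersion (Φ ∣_ (f' ⁻¹ᵁ W)) := IsZariskiLocalAtTarget.restrict (P := @IsOpenImmersion) ‹_› _
  have : IsIso (Φ ∣_ (f' ⁻¹ᵁ W)) := by
    have : Surjective (Φ ∣_ (f' ⁻¹ᵁ W)) := ⟨fun y => by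
      obtain ⟨x, hx⟩ := hW y.1 y.2
      refine ⟨⟨x, show f' (Φ x) ∈ W by rw [hx]; exact y.2⟩, Subtype.ext ?_⟩
      rw [morphismRestrict_base]
      exact hx⟩
    exact (isIso_iff_isOpenImmersion_and_surjective _).2 ⟨inferInstance, inferInstance⟩
  rw [morphismRestrict_comp]
  exact @MorphismProperty.cancel_left_of_respectsIso _ _ P _ _ _ _ _ _ this

variable {S : Scheme.{u}} (G : Grpd.GroupoidScheme S)

/-- The target of a restricted groupoid is a base change of the target. -/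
theorem isPullback_restrictT (W : G.U.Opens) (hW : G.s ⁻¹ᵁ W = G.t ⁻¹ᵁ W) :
    IsPullback (restrictT G W hW) (arrowsι G W) W.ι G.t :=
  IsOpenImmersion.isPullback _ _ _ _ (restrictT_ι G W hW).symm
    (by rw [Scheme.Opens.opensRange_ι, Scheme.Opens.opensRange_ι, hW])

theorem mem_q_iff {U' : Scheme.{u}} (g : U' ⟶ G.U) (W : G.U.Opens)
    (hW : ∀ r, G.s r ∈ W ↔ G.t r ∈ W) (z : V G g) :
    q G g z ∈ W ↔ g (pullback.snd G.t g z) ∈ W := by
  rw [Scheme.Hom.comp_apply, hW, ← Scheme.Hom.comp_apply, ← Scheme.Hom.comp_apply, pullback.condition]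

/-- Changing a slice away from an invariant open. -/
theorem q_restrict_iff (P : MorphismProperty Scheme.{u}) [P.RespectsIso] {A A' : Scheme.{u}}
    (σ : A ⟶ A') [IsOpenImmersion σ] (v : A ⟶ G.U) (v' : A' ⟶ G.U) (h : σ ≫ v' = v) (W : G.U.Opens)
    (hW : ∀ r, G.s r ∈ W ↔ G.t r ∈ W) (hr : ∀ x, v' x ∈ W → x ∈ Set.range σ) :
    P (q G v ∣_ W) ↔ P (q G v' ∣_ W) := by
  let Φ : V G v ⟶ V G v' := pullback.map _ _ _ _ (𝟙 _) σ (𝟙 _) (by simp) (by simp [h])
  refine restrict_iff_of_range P Φ (q G v') (q G v) ?_ W fun z hz => ?_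
  · simp only [Φ, pullback.map, pullback.lift_fst_assoc, Category.comp_id]
  · have := hr _ ((mem_q_iff G v' W hW z).1 hz)
    show z ∈ Set.range (pullback.map G.t v G.t v' (𝟙 G.R) σ (𝟙 G.U) _ _)
    rw [Scheme.Pullback.range_map]
    exact ⟨⟨pullback.fst G.t v' z, rfl⟩, this⟩

/-- The data of a quasi-section over an invariant open. -/
structure QuasiSect where
  /-- the invariant open -/
  W : G.U.Opens
  inv : G.s ⁻¹ᵁ W = G.t ⁻¹ᵁ W
  dense : Dense (W : Set G.U)
  /-- the quasi-section -/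
  U' : Scheme.{u}
  /-- its map -/
  u : U' ⟶ W.toScheme
  imm : IsImmersion u
  fin : IsFinite (q (restrict G W inv) u)
  flat : Flat (q (restrict G W inv) u)
  surj : Surjective (q (restrict G W inv) u)
  affine : ∀ E : Set U', (∀ x ∈ E, ∀ y ∈ E, ∃ r : (restrict G W inv).R,
    (restrict G W inv).t r = u x ∧ (restrict G W inv).s r = u y) →
      ∃ V : U'.Opens, IsAffineOpen V ∧ E ⊆ (V : Set U')

theorem nonempty_quasiSect [IsNoetherian G.R] [IsNoetherian G.U] [Flat G.s] [LocallyOfFinitePresentation G.s]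
    [Flat G.t] [LocallyOfFinitePresentation G.t] [LocallyQuasiFinite G.j] [LocallyOfFiniteType G.j] :
    Nonempty (QuasiSect G) := by
  classical
  let M := {η : G.U | closure {η} ∈ irreducibleComponents G.U}
  have hMfin : M.Finite := by
    refine Set.Finite.of_finite_image (f := fun x : G.U => closure {x})
      ((TopologicalSpace.NoetherianSpace.finite_irreducibleComponents (α := G.U)).subset ?_) ?_
    · rintro _ ⟨x, hx, rfl⟩; exact hx
    · exact fun a _ b _ hab => (inseparable_iff_closure_eq.mpr hab).eq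
  obtain ⟨n, e, -, he⟩ := hMfin.fin_param
  choose U' hU' g hg hloc hrange using fun i : Fin n =>
    exists_slice G (e i) (show e i ∈ M from he ▸ ⟨i, rfl⟩)
  -- the invariant opens of the slices
  have hWg : ∀ i, IsOpen ((finLocus (q G (g i)) : Set G.U) ∩ Set.range (q G (g i))) := by
    intro i
    have hF : Flat (q G (g i) ∣_ finLocus (q G (g i))) := (finFlat_finLocus _).2
    have : IsFinite (q G (g i) ∣_ finLocus (q G (g i))) := (finFlat_finLocus _).1
    have : IsLocallyNoetherian (finLocus (q G (g i))).toScheme :=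
      isLocallyNoetherian_of_isOpenImmersion (finLocus (q G (g i))).ι
    have : LocallyOfFinitePresentation (q G (g i) ∣_ finLocus (q G (g i))) := inferInstance
    have ho := (finLocus (q G (g i))).2.isOpenMap_subtype_val _
      ((q G (g i) ∣_ finLocus (q G (g i))).isOpenMap).isOpen_range
    convert ho using 1
    ext x
    constructor
    · rintro ⟨hx, z, hz⟩
      refine ⟨⟨x, hx⟩, ⟨⟨z, show q G (g i) z ∈ _ by rw [hz]; exact hx⟩, Subtype.ext ?_⟩, rfl⟩
      rw [morphismRestrict_base]; exact hz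
    · rintro ⟨y, ⟨z, hz⟩, rfl⟩
      refine ⟨y.2, z.1, ?_⟩
      have := congrArg Subtype.val hz
      rwa [morphismRestrict_base] at this
  let Wg : Fin n → G.U.Opens := fun i => ⟨_, hWg i⟩
  have hWginv : ∀ i r, G.s r ∈ Wg i ↔ G.t r ∈ Wg i := fun i r =>
    and_congr (finLocus_invariant G (g i) r) (range_q_invariant G (g i) r)
  -- making them disjoint
  let P : Fin n → Set G.U := fun i => closure (⋃ j : {j // j < i}, (Wg j : Set G.U))
  let Wi : Fin n → G.U.Opens := fun i => Wg i ⊓ ⟨(P i)ᶜ, isClosed_closure.isOpen_compl⟩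
  have hUinv : ∀ i r, G.s r ∈ P i ↔ G.t r ∈ P i := by
    intro i r
    have hs := (Scheme.Hom.isOpenMap G.s).preimage_closure_eq_closure_preimage G.s.continuous
      (⋃ j : {j // j < i}, (Wg j : Set G.U))
    have ht := (Scheme.Hom.isOpenMap G.t).preimage_closure_eq_closure_preimage G.t.continuous
      (⋃ j : {j // j < i}, (Wg j : Set G.U))
    show r ∈ ⇑G.s ⁻¹' P i ↔ r ∈ ⇑G.t ⁻¹' P i
    rw [hs, ht]
    have : ⇑G.s ⁻¹' (⋃ j : {j // j < i}, (Wg j : Set G.U)) =
        ⇑G.t ⁻¹' (⋃ j : {j // j < i}, (Wg j : Set G.U)) := by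
      ext r'
      simp only [Set.mem_preimage, Set.mem_iUnion, SetLike.mem_coe, hWginv]
    rw [this]
  have hWiinv : ∀ i r, G.s r ∈ Wi i ↔ G.t r ∈ Wi i := fun i r =>
    and_congr (hWginv i r) (not_congr (hUinv i r))
  have hdisj : ∀ i j (x : G.U), x ∈ Wi i → x ∈ Wi j → i = j := by
    have key : ∀ i j (x : G.U), j < i → x ∈ Wi i → x ∈ Wi j → False := fun i j x hji hi hj =>
      hi.2 (subset_closure (Set.mem_iUnion.2 ⟨⟨j, hji⟩, hj.1⟩))
    intro i j x hi hj
    rcases lt_trichotomy i j with h | h | h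
    · exact (key j i x h hj hi).elim
    · exact h
    · exact (key i j x h hi hj).elim
  let W : G.U.Opens := ⨆ i, Wi i
  have hle : ∀ i, Wi i ≤ W := le_iSup Wi
  have hW : G.s ⁻¹ᵁ W = G.t ⁻¹ᵁ W := by
    ext r
    show G.s r ∈ W ↔ G.t r ∈ W
    simp only [W, Opens.mem_iSup, hWiinv]
  have hWinv : ∀ r, G.s r ∈ W ↔ G.t r ∈ W := fun r => SetLike.ext_iff.1 hW r
  -- every maximal point is in `W`
  have hη : ∀ η ∈ M, η ∈ W := by
    intro η hη
    obtain ⟨i₀, rfl⟩ : η ∈ Set.range e := he ▸ hη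
    have hne : (Finset.univ.filter fun j => e i₀ ∈ Wg j).Nonempty :=
      ⟨i₀, Finset.mem_filter.2 ⟨Finset.mem_univ _, hloc i₀, hrange i₀⟩⟩
    let j := (Finset.univ.filter fun j => e i₀ ∈ Wg j).min' hne
    have hj : e i₀ ∈ Wg j := (Finset.mem_filter.1 (Finset.min'_mem _ hne)).2
    refine Opens.mem_iSup.2 ⟨j, hj, fun hcl => ?_⟩
    -- a neighbourhood of the maximal point inside its component
    let C : Set G.U := ⋃ c ∈ irreducibleComponents G.U \ {closure {e i₀}}, c
    have hC : IsClosed C :=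
      (TopologicalSpace.NoetherianSpace.finite_irreducibleComponents (α := G.U)).sdiff.isClosed_biUnion
        fun c hc => isClosed_of_mem_irreducibleComponents c hc.1
    have hηC : e i₀ ∉ C := by
      simp only [C, Set.mem_iUnion, not_exists]
      intro c hc hmem
      have h' := (isClosed_of_mem_irreducibleComponents c hc.1).closure_subset_iff.mpr
        (Set.singleton_subset_iff.mpr hmem)
      exact hc.2 ((hη.2 hc.1.1 h').antisymm h')
    replace hcl : e i₀ ∈ closure (⋃ k : {k // k < j}, (Wg k : Set G.U)) := hcl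
    obtain ⟨y, hyC, hy⟩ := mem_closure_iff.1 hcl _ hC.isOpen_compl hηC
    obtain ⟨⟨k, hk⟩, hyk⟩ := Set.mem_iUnion.1 hy
    have hsp : e i₀ ⤳ y := by
      by_cases h : irreducibleComponent y = closure {e i₀}
      · exact specializes_iff_mem_closure.mpr (h ▸ mem_irreducibleComponent)
      · exact absurd (Set.mem_biUnion (t := fun c : Set G.U => c) (Set.mem_sdiff_singleton.mpr
          ⟨irreducibleComponent_mem_irreducibleComponents y, h⟩) mem_irreducibleComponent) hyC
    exact absurd (Finset.min'_le _ k (Finset.mem_filter.2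
      ⟨Finset.mem_univ _, hsp.mem_open (Wg k).2 hyk⟩)) (not_le.2 hk)
  have hdense : Dense (W : Set G.U) := fun x => by
    obtain ⟨η, hη', hηx⟩ := exists_genericPoint_specializes x
    exact mem_closure_iff.2 fun O hO hxO => ⟨η, hηx.mem_open hO hxO, hη η hη'⟩
  -- the pieces
  let A : Fin n → Scheme.{u} := fun i => ((g i) ⁻¹ᵁ Wi i).toScheme
  let v : ∀ i, A i ⟶ G.U := fun i => ((g i) ⁻¹ᵁ Wi i).ι ≫ g i
  let U'' : Scheme.{u} := ∐ A
  let û : U'' ⟶ G.U := Sigma.desc v
  have hûι : ∀ i, Sigma.ι A i ≫ û = v i := fun i => Sigma.ι_desc _ _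
  have hvW : ∀ i (a : A i), v i a ∈ Wi i := fun i a => a.2
  have hûW : ∀ x, ∃ i a, Sigma.ι A i a = x ∧ û x ∈ Wi i := by
    intro x
    obtain ⟨i, a, rfl⟩ := (sigmaOpenCover A).exists_eq x
    refine ⟨i, a, rfl, ?_⟩
    show û (Sigma.ι A i a) ∈ Wi i
    rw [← Scheme.Hom.comp_apply, hûι]
    exact hvW i a
  have hσ : ∀ i x, û x ∈ Wi i → x ∈ Set.range (Sigma.ι A i) := by
    intro i x hx
    obtain ⟨j, a, rfl, hj⟩ := hûW x
    obtain rfl := hdisj i j _ hx hj
    exact ⟨a, rfl⟩
  let u : U'' ⟶ W.toScheme := IsOpenImmersion.lift W.ι û (by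
    rintro _ ⟨x, rfl⟩
    obtain ⟨i, a, -, hi⟩ := hûW x
    rw [Scheme.Opens.range_ι]
    exact hle i hi)
  have huι : u ≫ W.ι = û := IsOpenImmersion.lift_fac _ _ _
  have himm : IsImmersion u := by
    refine IsZariskiLocalAtTarget.of_iSup_eq_top (P := @IsImmersion) (fun i => W.ι ⁻¹ᵁ Wi i) ?_ fun i => ?_
    · refine top_le_iff.1 fun x _ => ?_
      obtain ⟨i, hi⟩ := Opens.mem_iSup.1 x.2
      exact Opens.mem_iSup.2 ⟨i, hi⟩
    · have h1 : IsImmersion (g i ∣_ Wi i) := IsZariskiLocalAtTarget.restrict (hg i) _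
      have h2 : IsImmersion (v i ∣_ Wi i) :=
        (restrict_iff_of_range @IsImmersion ((g i) ⁻¹ᵁ Wi i).ι (g i) (v i) rfl (Wi i)
          (fun x hx => by rw [Scheme.Opens.range_ι]; exact hx)).2 h1
      have h3 : IsImmersion ((u ≫ W.ι) ∣_ Wi i) := by
        rw [huι]
        exact (restrict_iff_of_range @IsImmersion (Sigma.ι A i) û (v i) (hûι i) (Wi i) (hσ i)).1 h2
      rw [morphismRestrict_comp] at h3
      exact MorphismProperty.of_postcomp (W := @IsImmersion) (W' := ⊤) _ _ trivial h3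
  -- finite flatness
  have hfin : ∀ i, FinFlat (q G û ∣_ Wi i) := by
    intro i
    refine (q_restrict_iff G FinFlat (Sigma.ι A i) (v i) û (hûι i) (Wi i) (hWiinv i) (hσ i)).1 ?_
    refine (q_restrict_iff G FinFlat ((g i) ⁻¹ᵁ Wi i).ι (v i) (g i) rfl (Wi i) (hWiinv i)
      (fun x hx => by rw [Scheme.Opens.range_ι]; exact hx)).2 ?_
    exact finFlat_restrict_of_le _ (fun x hx => hx.1.1) (finFlat_finLocus _)
  have hfW : FinFlat (q G û ∣_ W) :=
    finFlat_restrict_of_le _ (iSup_le fun i => le_finLocus (hfin i)) (finFlat_finLocus _)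
  let GW := restrict G W hW
  let T := pullback GW.t u
  have hpb : IsPullback (pullback.snd GW.t u) (pullback.fst GW.t u ≫ arrowsι G W) (u ≫ W.ι) G.t :=
    (IsPullback.of_hasPullback GW.t u).flip.paste_vert (isPullback_restrictT G W hW)
  let e' : T ≅ V G û := hpb.flip.isoPullback ≪≫ pullback.congrHom rfl huι
  have he' : e'.hom ≫ pullback.fst G.t û = pullback.fst GW.t u ≫ arrowsι G W := by
    simp only [e', Iso.trans_hom, Category.assoc, pullback.congrHom_hom, pullback.map,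
      pullback.lift_fst, Category.comp_id, IsPullback.isoPullback_hom_fst]
  have hq : q GW u ≫ W.ι = e'.hom ≫ q G û := by
    show (pullback.fst GW.t u ≫ GW.s) ≫ W.ι = e'.hom ≫ pullback.fst G.t û ≫ G.s
    rw [Category.assoc, ← Category.assoc e'.hom, he', Category.assoc]
    exact congrArg (pullback.fst GW.t u ≫ ·) (morphismRestrict_ι G.s W)
  have hall : ∀ z, q G û z ∈ W := fun z => by
    rw [mem_q_iff G û W hWinv]
    obtain ⟨i, a, -, hi⟩ := hûW (pullback.snd G.t û z)
    exact hle i hi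
  have sq : IsPullback (q GW u) e'.hom W.ι (q G û) :=
    IsOpenImmersion.isPullback _ _ _ _ hq.symm (by
      rw [Scheme.Opens.opensRange_ι, Scheme.Hom.opensRange_of_isIso]
      exact top_le_iff.1 fun z _ => hall z)
  let φ := sq.isoIsPullback _ _ (isPullback_morphismRestrict (q G û) W).flip.flip
  have hqφ : q GW u = φ.hom ≫ (q G û ∣_ W) := (IsPullback.isoIsPullback_hom_fst _ _ _ _).symm
  have hfinflat : FinFlat (q GW u) := by
    rw [hqφ, (@FinFlat).cancel_left_of_respectsIso]; exact hfW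
  have hsurj : Surjective (q GW u) := ⟨fun y => by
    obtain ⟨i, hi⟩ := Opens.mem_iSup.1 y.2
    obtain ⟨-, z, hz⟩ := hi.1
    obtain ⟨a, ha⟩ : ∃ a : A i, a.1 = pullback.snd G.t (g i) z :=
      ⟨⟨_, (mem_q_iff G (g i) (Wi i) (hWiinv i) z).1 (by rw [hz]; exact hi)⟩, rfl⟩
    obtain ⟨z', hz', -⟩ := Scheme.Pullback.exists_preimage_pullback (pullback.fst G.t (g i) z)
      (Sigma.ι A i a) (f := G.t) (g := û) (by
        rw [← Scheme.Hom.comp_apply (Sigma.ι A i), hûι, ← Scheme.Hom.comp_apply, pullback.condition,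
          Scheme.Hom.comp_apply, ← ha]
        rfl)
    refine ⟨e'.inv z', Subtype.ext ?_⟩
    have h := congr(($hq).base (e'.inv z'))
    simp only [Scheme.Hom.comp_apply] at h
    refine h.trans ?_
    rw [← Scheme.Hom.comp_apply e'.inv, e'.inv_hom_id, Scheme.Hom.id_base, TopCat.id_app, hz']
    exact hz⟩
  refine ⟨⟨W, hW, hdense, U'', u, himm, hfinflat.1, hfinflat.2, hsurj, ?_⟩⟩
  -- finite sets of related points lie in affine opens
  intro E hE
  rcases E.eq_empty_or_nonempty with rfl | ⟨x₀, hx₀⟩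
  · exact ⟨⊥, isAffineOpen_bot U'', Set.empty_subset _⟩
  obtain ⟨i, a₀, -, hi₀⟩ := hûW x₀
  have hfinE : E.Finite := by
    have : IsFinite (q GW u) := hfinflat.1
    refine (((q GW u).finite_preimage_singleton (u x₀)).image (pullback.snd GW.t u)).subset ?_
    intro x hx
    obtain ⟨r, hr1, hr2⟩ := hE x hx x₀ hx₀
    obtain ⟨z, hz1, hz2⟩ := Scheme.Pullback.exists_preimage_pullback r x hr1
    exact ⟨z, by rw [Set.mem_preimage, Set.mem_singleton_iff, Scheme.Hom.comp_apply, hz1, hr2], hz2⟩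
  have hEi : ∀ x ∈ E, x ∈ Set.range (Sigma.ι A i) := by
    intro x hx
    refine hσ i x ?_
    obtain ⟨r, hr1, hr2⟩ := hE x hx x₀ hx₀
    have h1 : G.t (arrowsι G W r) = û x := by
      rw [← huι, ← Scheme.Hom.comp_apply, ← restrictT_ι G W hW, Scheme.Hom.comp_apply, Scheme.Hom.comp_apply]
      exact congrArg _ hr1
    have h2 : G.s (arrowsι G W r) = û x₀ := by
      rw [← huι, ← Scheme.Hom.comp_apply, ← morphismRestrict_ι G.s W, Scheme.Hom.comp_apply, Scheme.Hom.comp_apply]
      exact congrArg _ hr2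
    rw [← h1, ← hWiinv i, h2]
    exact hi₀
  obtain ⟨V₀, hV₀, hEV⟩ := Groth.GitQuot.exists_affineOpen_of_finite ((g i) ⁻¹ᵁ Wi i).ι
    (⇑(Sigma.ι A i) ⁻¹' E) (hfinE.preimage (Sigma.ι A i).isOpenEmbedding.injective.injOn)
  refine ⟨(Sigma.ι A i) ''ᵁ V₀, hV₀.image_of_isOpenImmersion _, fun x hx => ?_⟩
  obtain ⟨a, rfl⟩ := hEi x hx
  exact ⟨a, hEV hx, rfl⟩

end Groth.GrpQDense
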