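import Mathlib
import Groth.Agent.GitQuot.GrpdQuotient

/-!
# The quotient by a finite locally free groupoid is of finite type over a noetherian base
-/

set_option autoImplicit false

universe u

open AlgebraicGeometry CategoryTheory CategoryTheory.Limits

noncomputable section

namespace Groth.GrpQDense

/-- Artin–Tate for affine schemes. -/
theorem lft_of_integral {P E V : Scheme.{u}} [IsAffine P] [IsAffine E] [IsAffine V]
    [IsLocallyNoetherian V] (p : P ⟶ E) [IsIntegralHom p] (hinj : Function.Injective p.appTop.hom)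
    (q : E ⟶ V) [LocallyOfFiniteType (p ≫ q)] : LocallyOfFiniteType q := by
  have : LocallyOfFiniteType p := locallyOfFiniteType_of_comp p q
  have : IsFinite p := IsFinite.iff_isIntegralHom_and_locallyOfFiniteType _ |>.2 ⟨inferInstance, inferInstance⟩
  have hpq := (HasRingHomProperty.iff_of_isAffine (P := @LocallyOfFiniteType)).1
    (inferInstance : LocallyOfFiniteType (p ≫ q))
  rw [Scheme.Hom.comp_appTop] at hpq
  have hfin : p.appTop.hom.Finite := IsFinite.finite_app (f := p) ⊤ (isAffineOpen_top E)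
  have : IsNoetherianRing Γ(V, ⊤) := IsLocallyNoetherian.component_noetherian ⟨⊤, isAffineOpen_top V⟩
  rw [HasRingHomProperty.iff_of_isAffine (P := @LocallyOfFiniteType)]
  algebraize [q.appTop.hom, p.appTop.hom, (q.appTop ≫ p.appTop).hom]
  have : IsScalarTower Γ(V, ⊤) Γ(E, ⊤) Γ(P, ⊤) := IsScalarTower.of_algebraMap_eq' rfl
  exact ⟨fg_of_fg_of_fg Γ(V, ⊤) Γ(E, ⊤) Γ(P, ⊤) hpq.1 Module.Finite.fg_top hinj⟩

/-- Injectivity on global functions passes to flat base change. -/
theorem injective_appTop_pullback {P U E M : Scheme.{u}} [IsAffine P] [IsAffine U] [IsAffine E]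
    [IsAffine M] {a : P ⟶ U} {pE : P ⟶ E} {f : U ⟶ M} {e : E ⟶ M} (sq : IsPullback a pE f e)
    [Flat e] (hf : Function.Injective f.appTop.hom) : Function.Injective pE.appTop.hom := by
  have hA := isPushout_appTop_of_isPullback sq
  letI : Algebra Γ(M, ⊤) Γ(U, ⊤) := f.appTop.hom.toAlgebra
  letI : Algebra Γ(M, ⊤) Γ(E, ⊤) := e.appTop.hom.toAlgebra
  haveI : Module.Flat Γ(M, ⊤) Γ(E, ⊤) := e.flat_appTop
  let TA := ((CommRingCat.isPushout_tensorProduct Γ(M, ⊤) Γ(E, ⊤) Γ(U, ⊤)).flip).isoIsPushout _ _ hA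
  have hA1 : ∀ c, TA.hom.hom (c ⊗ₜ 1) = pE.appTop.hom c := fun c =>
    congrArg (fun φ : Γ(E, ⊤) ⟶ Γ(P, ⊤) => φ.hom c)
      (((CommRingCat.isPushout_tensorProduct Γ(M, ⊤) Γ(E, ⊤) Γ(U, ⊤)).flip).inr_isoIsPushout_hom _ _ hA)
  have hj : Function.Injective
      ((Algebra.linearMap Γ(M, ⊤) Γ(U, ⊤)).lTensor Γ(E, ⊤)) :=
    Module.Flat.lTensor_preserves_injective_linearMap _ hf
  intro c c' hc
  rw [← hA1, ← hA1] at hc
  have h₁ := TA.commRingCatIsoToRingEquiv.injective hc
  have h₂ : ((Algebra.linearMap Γ(M, ⊤) Γ(U, ⊤)).lTensor Γ(E, ⊤)) (c ⊗ₜ 1) =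
      ((Algebra.linearMap Γ(M, ⊤) Γ(U, ⊤)).lTensor Γ(E, ⊤)) (c' ⊗ₜ 1) := by
    simp only [LinearMap.lTensor_tmul, Algebra.linearMap_apply, map_one]
    exact h₁
  have h₃ := congrArg (TensorProduct.rid Γ(M, ⊤) Γ(E, ⊤)) (hj h₂)
  simpa using h₃

/-- Artin–Tate over an arbitrary locally noetherian base. -/
theorem lft_of_integral' {P E S : Scheme.{u}} [IsAffine P] [IsAffine E]
    [IsLocallyNoetherian S] (p : P ⟶ E) [IsIntegralHom p] (hinj : Function.Injective p.appTop.hom)
    (q : E ⟶ S) [LocallyOfFiniteType (p ≫ q)] : LocallyOfFiniteType q := by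
  have hpt : ∀ x : E, ∃ D : E.Opens, x ∈ D ∧ LocallyOfFiniteType (D.ι ≫ q) := by
    intro x
    obtain ⟨V, hV, hxV, -⟩ := exists_isAffineOpen_mem_and_subset (X := S) (x := q x) (U := ⊤) trivial
    obtain ⟨D, hD, hxD, hDV⟩ :=
      exists_isAffineOpen_mem_and_subset (show x ∈ q ⁻¹ᵁ V from hxV)
    refine ⟨D, hxD, ?_⟩
    have : IsAffine D.toScheme := hD
    have : IsAffine V.toScheme := hV
    have : IsAffine (p ⁻¹ᵁ D).toScheme := hD.preimage p
    have : IsLocallyNoetherian V.toScheme := isLocallyNoetherian_of_isOpenImmersion V.ι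
    have : IsIntegralHom (p ∣_ D) := IsZariskiLocalAtTarget.restrict (P := @IsIntegralHom) ‹_› D
    have hinj' : Function.Injective (p ∣_ D).appTop.hom :=
      injective_appTop_pullback (isPullback_morphismRestrict p D).flip hinj
    have hDq : ∀ z : D.toScheme, (D.ι ≫ q) z ∈ V := fun z => hDV z.2
    let r : D.toScheme ⟶ V.toScheme := IsOpenImmersion.lift V.ι (D.ι ≫ q) (by
      rintro _ ⟨z, rfl⟩
      rw [Scheme.Opens.range_ι]
      exact hDq z)
    have hr : r ≫ V.ι = D.ι ≫ q := IsOpenImmersion.lift_fac _ _ _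
    have : LocallyOfFiniteType (((p ∣_ D) ≫ r) ≫ V.ι) := by
      rw [Category.assoc, hr, morphismRestrict_ι_assoc]
      infer_instance
    have : LocallyOfFiniteType ((p ∣_ D) ≫ r) := locallyOfFiniteType_of_comp _ V.ι
    have : LocallyOfFiniteType r := lft_of_integral (p ∣_ D) hinj' r
    rw [← hr]
    infer_instance
  choose D hxD hD using hpt
  exact IsZariskiLocalAtSource.of_iSup_eq_top (P := @LocallyOfFiniteType) D
    (top_le_iff.1 fun x _ => TopologicalSpace.Opens.mem_iSup.2 ⟨x, hxD x⟩) hD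

open Groth.GrpdQuotient

variable {S : Scheme.{u}} {G : Grpd.GroupoidScheme S}

theorem lft_quotient [IsFinite G.s] [Flat G.s] [LocallyOfFinitePresentation G.s] [IsLocallyNoetherian S]
    (hb : OrbitsInAffine G) (q : quotient G ⟶ S) [LocallyOfFiniteType (p hb ≫ q)] :
    LocallyOfFiniteType q := by
  refine IsZariskiLocalAtSource.of_openCover (P := @LocallyOfFiniteType)
    (Scheme.IsLocallyDirected.openCover (diagram G)) fun W => ?_
  change LocallyOfFiniteType (ι W ≫ q)
  have : LocallyOfFiniteType (W.π ≫ ι W ≫ q) := by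
    rw [← Category.assoc, ← ι_p hb, Category.assoc]
    infer_instance
  have hinj : Function.Injective W.π.appTop.hom := by
    have : IsAffine W.grpd.U := W.aff
    have : IsIso W.grpd.U.toSpecΓ := W.grpd.U.isoSpec.isIso_hom
    have : IsIso W.grpd.U.toSpecΓ.appTop := by
      rw [Scheme.toSpecΓ_appTop]; infer_instance
    have hi : Function.Bijective W.grpd.U.toSpecΓ.appTop.hom := ConcreteCategory.bijective_of_isIso _
    rw [show W.π = W.grpd.U.toSpecΓ ≫ Spec.map (CommRingCat.ofHom W.grpd.invariants.subtype) from rfl,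
      Scheme.Hom.comp_appTop, CommRingCat.hom_comp, RingHom.coe_comp]
    refine hi.1.comp ?_
    have h := Scheme.ΓSpecIso_naturality (CommRingCat.ofHom W.grpd.invariants.subtype)
    intro a b hab
    have e1 := congr(($h).hom a)
    have e2 := congr(($h).hom b)
    simp only [CommRingCat.hom_comp, RingHom.comp_apply, CommRingCat.hom_ofHom] at e1 e2
    apply (Scheme.ΓSpecIso (CommRingCat.of W.grpd.invariants)).commRingCatIsoToRingEquiv.injective
    apply Subtype.val_injective
    exact e1.symm.trans ((congrArg _ hab).trans e2)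
  exact lft_of_integral' W.π hinj (ι W ≫ q)

end Groth.GrpQDense
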