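import Mathlib
import Groth.Agent.GrpQDense.Glue
import Groth.Agent.GrpQDense.Lft
import Groth.Agent.GitQuot.QuasiSection

/-!
# Quotient of a groupoid on a dense invariant open
-/

set_option autoImplicit false

universe u

open AlgebraicGeometry CategoryTheory CategoryTheory.Limits TopologicalSpace

noncomputable section

namespace Groth.GrpQDense

open Groth.GrpdBasic Groth.GrpdPullback

variable {S : Scheme.{u}}

theorem main [IsNoetherian S] (G : Grpd.GroupoidScheme S)
    [Flat G.s] [LocallyOfFiniteType G.s] [QuasiCompact G.s] [LocallyOfFiniteType G.pU] [QuasiCompact G.pU]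
    [LocallyQuasiFinite G.j] [LocallyOfFiniteType G.j] :
    ∃ (W : G.U.Opens) (hW : G.t ⁻¹ᵁ W = G.s ⁻¹ᵁ W), Dense (W : Set G.U) ∧
      ∃ (V : Scheme.{u}) (p : (W : Scheme.{u}) ⟶ V)
        (w : G.t.resLE W (G.s ⁻¹ᵁ W) hW.ge ≫ p = (G.s ∣_ W) ≫ p) (q : V ⟶ S),
        Nonempty (IsColimit (Cofork.ofπ p w)) ∧ p ≫ q = W.ι ≫ G.pU ∧
        Surjective p ∧ IsOpenMap p.base ∧ LocallyOfFinitePresentation p ∧
        LocallyOfFinitePresentation q ∧ QuasiCompact q ∧ QuasiSeparated q ∧
        Function.Surjective (pullback.lift (G.t.resLE W (G.s ⁻¹ᵁ W) hW.ge) (G.s ∣_ W) w).base ∧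
        (Mono G.j → IsPullback (G.t.resLE W (G.s ⁻¹ᵁ W) hW.ge) (G.s ∣_ W) p p ∧ Flat p) := by
  have : IsLocallyNoetherian G.U := LocallyOfFiniteType.isLocallyNoetherian G.pU
  have : CompactSpace G.U := QuasiCompact.compactSpace_of_compactSpace G.pU
  have : IsNoetherian G.U := ⟨⟩
  have : IsLocallyNoetherian G.R := LocallyOfFiniteType.isLocallyNoetherian G.s
  have : CompactSpace G.R := QuasiCompact.compactSpace_of_compactSpace G.s
  have : IsNoetherian G.R := ⟨⟩
  have : LocallyOfFinitePresentation G.s := inferInstance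
  have : Flat G.t := G.i_s ▸ inferInstance
  have : LocallyOfFinitePresentation G.t := G.i_s ▸ inferInstance
  obtain ⟨⟨W, hW, hdense, U', u, himm, hfin, hflat, hsurj, haff⟩⟩ := nonempty_quasiSect G
  let GW := restrict G W hW
  have : IsLocallyNoetherian W.toScheme := isLocallyNoetherian_of_isOpenImmersion W.ι
  have : CompactSpace W.toScheme :=
    isCompact_iff_compactSpace.mp (TopologicalSpace.NoetherianSpace.isCompact _)
  have : IsNoetherian W.toScheme := ⟨⟩
  have htflat : Flat GW.t := MorphismProperty.of_isPullback (isPullback_restrictT G W hW).flip ‹Flat G.t›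
  have htlfp : LocallyOfFinitePresentation GW.t :=
    MorphismProperty.of_isPullback (P := @LocallyOfFinitePresentation) (isPullback_restrictT G W hW).flip ‹_›
  have : Flat GW.s := IsZariskiLocalAtTarget.restrict (P := @Flat) ‹_› _
  have : LocallyOfFinitePresentation GW.s := IsZariskiLocalAtTarget.restrict (P := @LocallyOfFinitePresentation) ‹_› _
  have hq : LocallyOfFiniteType (q GW u) := by
    have : LocallyOfFiniteType (pullback.fst GW.t u) :=
      MorphismProperty.pullback_fst (P := @LocallyOfFiniteType) _ _ inferInstance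
    infer_instance
  have : LocallyOfFinitePresentation (q GW u) := inferInstance
  have hE : QuasiSection.SetsInAffine GW u := haff
  let p := QuasiSection.p hE
  have hw := QuasiSection.w hE
  obtain ⟨hcol⟩ := QuasiSection.nonempty_isColimit hE
  have hov : GW.t ≫ GW.pU = GW.s ≫ GW.pU := GW.t_over.trans GW.s_over.symm
  let qV : GrpdQuotient.quotient (grpd GW u) ⟶ S := hcol.desc (Cofork.ofπ GW.pU hov)
  have hpq : p ≫ qV = W.ι ≫ G.pU := hcol.fac (Cofork.ofπ GW.pU hov) WalkingParallelPair.one
  -- the quotient is of finite type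
  have hp' : LocallyOfFiniteType (GrpdQuotient.p (QuasiSection.orbitsInAffine hE) ≫ qV) := by
    rw [show GrpdQuotient.p (QuasiSection.orbitsInAffine hE) = u ≫ QuasiSection.p hE from
      (QuasiSection.u_p hE).symm, Category.assoc, hpq]
    infer_instance
  have hlft : LocallyOfFiniteType qV := lft_quotient (QuasiSection.orbitsInAffine hE) qV
  have : IsLocallyNoetherian (GrpdQuotient.quotient (grpd GW u)) := LocallyOfFiniteType.isLocallyNoetherian qV
  have : CompactSpace (GrpdQuotient.quotient (grpd GW u)) :=
    (p.surjective).compactSpace p.continuous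
  have : IsNoetherian (GrpdQuotient.quotient (grpd GW u)) := ⟨⟩
  have : LocallyOfFiniteType p := by
    have : LocallyOfFiniteType (p ≫ qV) := hpq ▸ inferInstance
    exact locallyOfFiniteType_of_comp p qV
  have ht : GW.t = G.t.resLE W (G.s ⁻¹ᵁ W) hW.symm.ge := by
    rw [← cancel_mono W.ι, Scheme.Hom.resLE_comp_ι]
    exact restrictT_ι G W hW
  have hop : IsOpenMap GW.t := GW.t.isOpenMap
  -- transport along `ht`
  have main : ∀ (t : (G.s ⁻¹ᵁ W).toScheme ⟶ W.toScheme) (h : t = GW.t),
      ∃ (w : t ≫ p = (G.s ∣_ W) ≫ p),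
        Nonempty (IsColimit (Cofork.ofπ p w)) ∧
        Function.Surjective (pullback.lift t (G.s ∣_ W) w).base ∧
        (Mono G.j → IsPullback t (G.s ∣_ W) p p ∧ Flat p) := by
    rintro _ rfl
    refine ⟨hw, ⟨hcol⟩, (QuasiSection.surjective_lift hE).1, fun hj => ?_⟩
    have : Mono GW.j := by
      refine ⟨fun {Z} a b hab => ?_⟩
      rw [← cancel_mono (arrowsι G W), ← cancel_mono G.j]
      apply pullback.hom_ext
      · simp only [Category.assoc, Grpd.GroupoidScheme.j, pullback.lift_fst, ← restrictT_ι G W hW]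
        simp only [← Category.assoc]
        congr 1
        have h := congrArg (· ≫ pullback.fst GW.pU GW.pU) hab
        simp only [Category.assoc, Grpd.GroupoidScheme.j] at h
        erw [pullback.lift_fst] at h
        exact h
      · simp only [Category.assoc, Grpd.GroupoidScheme.j, pullback.lift_snd, ← morphismRestrict_ι G.s W]
        simp only [← Category.assoc]
        congr 1
        have h := congrArg (· ≫ pullback.snd GW.pU GW.pU) hab
        simp only [Category.assoc, Grpd.GroupoidScheme.j] at h
        erw [pullback.lift_snd] at h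
        exact h
    exact ⟨QuasiSection.isPullback hE, QuasiSection.flat_p hE⟩
  obtain ⟨w', hcol', hsurj', hmono⟩ := main _ ht.symm
  exact ⟨W, hW.symm, hdense, _, p, w', qV, hcol', hpq, inferInstance, QuasiSection.isOpenMap_p hE hop,
    inferInstance, inferInstance, inferInstance, inferInstance, hsurj', hmono⟩

end Groth.GrpQDense
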