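import Mathlib
import Groth.Agent.GrpQDense.Main
import Groth.Agent.Calg4.MonoFactor.Over
import Groth.Agent.AlgGrp2.Basic
import Groth.Agent.EtaleBase.FpqcDescent

/-!
# The groupoid of an action
-/

set_option autoImplicit false
set_option backward.isDefEq.respectTransparency.types false

universe u

open CategoryTheory CategoryTheory.Limits AlgebraicGeometry MonoidalCategory CartesianMonoidalCategory MonObj GrpObj
open Groth.AlgGrp2

noncomputable section

namespace Groth.GrpQDense

/-- A morphism whose kernel pair projection is locally quasi-finite is locally quasi-finite. -/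
theorem lqf_of_kernelPair {X Y : Scheme.{u}} (f : X ⟶ Y)
    (h : LocallyQuasiFinite (pullback.snd f f)) : LocallyQuasiFinite f := by
  refine .of_fiberToSpecResidueField f fun y => ?_
  show LocallyQuasiFinite (pullback.snd f (Y.fromSpecResidueField y))
  by_cases hy : y ∈ Set.range f
  · obtain ⟨r, rfl⟩ := hy
    let φ := Spec.map (f.residueFieldMap r)
    have hφ : φ ≫ Y.fromSpecResidueField (f r) = X.fromSpecResidueField r ≫ f :=
      Scheme.Hom.SpecMap_residueFieldMap_fromSpecResidueField f r
    have : Flat φ := by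
      rw [HasRingHomProperty.Spec_iff (P := @Flat)]
      letI := (f.residueFieldMap r).hom.toAlgebra
      rw [RingHom.Flat]
      infer_instance
    have : Surjective φ := ⟨fun z => ⟨default, Subsingleton.elim _ _⟩⟩
    refine MorphismProperty.of_pullback_fst_of_descendsAlong (P := @LocallyQuasiFinite)
      (Q := Groth.EtaleBase.Fpqc) (f := φ) ⟨⟨‹_›, ‹_›⟩, inferInstance⟩ ?_
    have h1 := (IsPullback.of_hasPullback φ (pullback.snd f (Y.fromSpecResidueField (f r)))).flip.paste_horiz
      (IsPullback.of_hasPullback f (Y.fromSpecResidueField (f r)))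
    have h2 := (IsPullback.of_hasPullback (pullback.snd f f) (X.fromSpecResidueField r)).paste_horiz
      (IsPullback.of_hasPullback f f)
    rw [hφ] at h1
    rw [← IsPullback.isoIsPullback_hom_snd _ _ h1 h2, MorphismProperty.cancel_left_of_respectsIso @LocallyQuasiFinite]
    exact MorphismProperty.pullback_snd _ _ h
  · have : IsEmpty (pullback f (Y.fromSpecResidueField y)).carrier := ⟨fun z => hy ⟨pullback.fst f _ z, by
      rw [← Scheme.Hom.comp_apply, pullback.condition, Scheme.Hom.comp_apply,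
        Scheme.fromSpecResidueField_apply]⟩⟩
    infer_instance

variable {S : Scheme.{u}} {G X : Over S} [GrpObj G] (a : AlgGrp.Action G X)

/-- The object of composable pairs. -/
abbrev pairs : Over S := Over.mk (pullback.fst (snd G X).left a.act.left ≫ (G ⊗ X).hom)

/-- First arrow. -/
def pr₁ : pairs a ⟶ G ⊗ X := Over.homMk (pullback.fst (snd G X).left a.act.left) rfl

/-- Second arrow. -/
def pr₂ : pairs a ⟶ G ⊗ X := Over.homMk (pullback.snd (snd G X).left a.act.left) (by
    change _ = pullback.fst (snd G X).left a.act.left ≫ (G ⊗ X).hom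
    conv_lhs => rw [← Over.w a.act]
    conv_rhs => rw [← Over.w (snd G X)]
    rw [← Category.assoc, ← pullback.condition, Category.assoc])

/-- Product of arrows. -/
abbrev mulArr {T : Over S} (α β : T ⟶ G ⊗ X) : T ⟶ G ⊗ X :=
  lift ((α ≫ fst G X) * (β ≫ fst G X)) (β ≫ snd G X)

theorem mulArr_act {T : Over S} (α β : T ⟶ G ⊗ X) (h : α ≫ snd G X = β ≫ a.act) :
    mulArr α β ≫ a.act = α ≫ a.act := by
  rw [mulArr, lift_mul_act, ← comp_lift, lift_fst_snd, Category.comp_id, ← h, ← comp_lift, lift_fst_snd,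
    Category.comp_id]

/-- The composition. -/
def actC : pullback (snd G X).left a.act.left ⟶ (G ⊗ X).left := (mulArr (pr₁ a) (pr₂ a)).left

theorem actC_over {T : Over S} (α β : T ⟶ G ⊗ X) (h : α.left ≫ (snd G X).left = β.left ≫ a.act.left) :
    pullback.lift α.left β.left h ≫ actC a = (mulArr α β).left := by
  let φ : T ⟶ pairs a := Over.homMk (pullback.lift α.left β.left h) (by
    show pullback.lift α.left β.left h ≫ pullback.fst _ _ ≫ (G ⊗ X).hom = T.hom
    rw [pullback.lift_fst_assoc, Over.w])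
  have h1 : φ ≫ pr₁ a = α := Over.OverMorphism.ext (pullback.lift_fst _ _ _)
  have h2 : φ ≫ pr₂ a = β := Over.OverMorphism.ext (pullback.lift_snd _ _ _)
  have : φ ≫ mulArr (pr₁ a) (pr₂ a) = mulArr α β := by
    rw [mulArr, mulArr, comp_lift, MonObj.comp_mul, ← Category.assoc φ, ← Category.assoc φ,
      ← Category.assoc φ, h1, h2]
  exact congrArg CommaMorphism.left this

/-- Unit arrow. -/
abbrev unitArr : X ⟶ G ⊗ X := lift 1 (𝟙 X)

/-- Inverse arrow. -/
abbrev invArr : G ⊗ X ⟶ G ⊗ X := lift (fst G X)⁻¹ a.act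

theorem invArr_act : invArr a ≫ a.act = snd G X := by
  have h : lift (fst G X) (snd G X) ≫ a.act = a.act := by rw [lift_fst_snd, Category.id_comp]
  calc lift (fst G X)⁻¹ a.act ≫ a.act
      = lift (fst G X)⁻¹ (lift (fst G X) (snd G X) ≫ a.act) ≫ a.act := by rw [h]
    _ = snd G X := lift_inv_act a _ _

theorem exists_over {T : Scheme.{u}} (α β : T ⟶ (G ⊗ X).left) (h : α ≫ (snd G X).left = β ≫ a.act.left) :
    β ≫ (G ⊗ X).hom = α ≫ (G ⊗ X).hom := by
  conv_lhs => rw [← Over.w a.act]
  conv_rhs => rw [← Over.w (snd G X)]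
  rw [← Category.assoc, ← h, Category.assoc]

/-- **The action groupoid.** -/
@[reducible] def actGrpd : Grpd.GroupoidScheme S where
  U := X.left
  R := (G ⊗ X).left
  pU := X.hom
  pR := (G ⊗ X).hom
  s := (snd G X).left
  t := a.act.left
  e := unitArr.left
  i := (invArr a).left
  c := actC a
  s_over := Over.w (snd G X)
  t_over := Over.w a.act
  comp_s {T} α β h := by
    let T' : Over S := Over.mk (α ≫ (G ⊗ X).hom)
    let α' : T' ⟶ G ⊗ X := Over.homMk α rfl
    let β' : T' ⟶ G ⊗ X := Over.homMk β (exists_over a α β h)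
    rw [show pullback.lift α β h ≫ actC a = (mulArr α' β').left from actC_over a α' β' h]
    exact congrArg CommaMorphism.left (lift_snd _ _ : mulArr α' β' ≫ snd G X = β' ≫ snd G X)
  comp_t {T} α β h := by
    let T' : Over S := Over.mk (α ≫ (G ⊗ X).hom)
    let α' : T' ⟶ G ⊗ X := Over.homMk α rfl
    let β' : T' ⟶ G ⊗ X := Over.homMk β (exists_over a α β h)
    rw [show pullback.lift α β h ≫ actC a = (mulArr α' β').left from actC_over a α' β' h]
    exact congrArg CommaMorphism.left (mulArr_act a α' β' (Over.OverMorphism.ext h))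
  assoc {T} α β ρ h₁ h₂ := by
    let T' : Over S := Over.mk (α ≫ (G ⊗ X).hom)
    let α' : T' ⟶ G ⊗ X := Over.homMk α rfl
    let β' : T' ⟶ G ⊗ X := Over.homMk β (exists_over a α β h₁)
    let ρ' : T' ⟶ G ⊗ X := Over.homMk ρ ((exists_over a β ρ h₂).trans (exists_over a α β h₁))
    have e1 : pullback.lift α β h₁ ≫ actC a = (mulArr α' β').left := actC_over a α' β' h₁
    have e2 : pullback.lift β ρ h₂ ≫ actC a = (mulArr β' ρ').left := actC_over a β' ρ' h₂
    simp only [e1, e2]
    erw [actC_over a (mulArr α' β') ρ', actC_over a α' (mulArr β' ρ')]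
    congr 1
    simp only [mulArr, lift_fst, lift_snd, _root_.mul_assoc]
  e_s := congrArg CommaMorphism.left (lift_snd _ _ : unitArr ≫ snd G X = 𝟙 X)
  e_t := congrArg CommaMorphism.left (lift_one_act a (𝟙 X) : unitArr ≫ a.act = 𝟙 X)
  comp_e {T} α := by
    let T' : Over S := Over.mk (α ≫ (G ⊗ X).hom)
    let α' : T' ⟶ G ⊗ X := Over.homMk α rfl
    refine (actC_over a α' (α' ≫ snd G X ≫ unitArr) _).trans (congrArg CommaMorphism.left (?_ : _ = α'))
    apply CartesianMonoidalCategory.hom_ext <;> simp [mulArr, unitArr, MonObj.comp_one]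
  e_comp {T} α := by
    let T' : Over S := Over.mk (α ≫ (G ⊗ X).hom)
    let α' : T' ⟶ G ⊗ X := Over.homMk α rfl
    refine (actC_over a (α' ≫ a.act ≫ unitArr) α' _).trans (congrArg CommaMorphism.left (?_ : _ = α'))
    apply CartesianMonoidalCategory.hom_ext <;> simp [mulArr, unitArr, MonObj.comp_one]
  i_s := congrArg CommaMorphism.left (lift_snd _ _ : invArr a ≫ snd G X = a.act)
  i_t := congrArg CommaMorphism.left (invArr_act a)
  comp_i {T} α := by
    let T' : Over S := Over.mk (α ≫ (G ⊗ X).hom)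
    let α' : T' ⟶ G ⊗ X := Over.homMk α rfl
    refine (actC_over a α' (α' ≫ invArr a) _).trans
      (congrArg CommaMorphism.left (?_ : _ = α' ≫ a.act ≫ unitArr))
    apply CartesianMonoidalCategory.hom_ext <;> simp [mulArr, unitArr, invArr, GrpObj.comp_inv, MonObj.comp_one]
  i_comp {T} α := by
    let T' : Over S := Over.mk (α ≫ (G ⊗ X).hom)
    let α' : T' ⟶ G ⊗ X := Over.homMk α rfl
    refine (actC_over a (α' ≫ invArr a) α' _).trans
      (congrArg CommaMorphism.left (?_ : _ = α' ≫ snd G X ≫ unitArr))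
    apply CartesianMonoidalCategory.hom_ext <;> simp [mulArr, unitArr, invArr, GrpObj.comp_inv, MonObj.comp_one]

theorem actGrpd_j : (actGrpd a).j = (Groth.Calg4.MonoFactor.graph a).left := by
  apply pullback.hom_ext
  · refine (pullback.lift_fst _ _ _).trans ?_
    exact (congrArg CommaMorphism.left (lift_fst a.act (snd G X))).symm
  · refine (pullback.lift_snd _ _ _).trans ?_
    exact (congrArg CommaMorphism.left (lift_snd a.act (snd G X))).symm

open Groth.Calg4.MonoFactor in
theorem lqf_graph (hF : LocallyQuasiFinite (pullback.snd (lift a.act (snd G X)) (lift (𝟙 X) (𝟙 X))).left) :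
    LocallyQuasiFinite (graph a).left := by
  have hp : IsPullback _ _ (graph a).left (graph a).left :=
    (isPullback_graph a (IsPullback.of_hasPullback _ _)).map (Over.forget S)
  have h1 : LocallyQuasiFinite (G ◁ pullback.snd (graph a) (lift (𝟙 X) (𝟙 X))).left :=
    whiskerLeft_left_prop @LocallyQuasiFinite G hF
  refine lqf_of_kernelPair _ ?_
  rw [← hp.flip.isoPullback_inv_snd]
  exact MorphismProperty.comp_mem @LocallyQuasiFinite _ _ inferInstance h1

theorem main_action [IsNoetherian S]
    [Flat G.hom] [LocallyOfFiniteType G.hom] [QuasiCompact G.hom] [LocallyOfFiniteType X.hom] [QuasiCompact X.hom]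
    (hF : LocallyQuasiFinite (pullback.snd (lift a.act (snd G X)) (lift (𝟙 X) (𝟙 X))).left) :
    ∃ (U : X.left.Opens) (hU : a.act.left ⁻¹ᵁ U = (snd G X).left ⁻¹ᵁ U), Dense (U : Set X.left) ∧
      ∃ (V : Scheme.{u}) (p : (U : Scheme.{u}) ⟶ V)
        (w : a.act.left.resLE U ((snd G X).left ⁻¹ᵁ U) hU.ge ≫ p = ((snd G X).left ∣_ U) ≫ p) (q : V ⟶ S),
        Nonempty (IsColimit (Cofork.ofπ p w)) ∧ p ≫ q = U.ι ≫ X.hom ∧
        Surjective p ∧ IsOpenMap p.base ∧ LocallyOfFinitePresentation p ∧
        LocallyOfFinitePresentation q ∧ QuasiCompact q ∧ QuasiSeparated q ∧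
        Function.Surjective (pullback.lift (a.act.left.resLE U ((snd G X).left ⁻¹ᵁ U) hU.ge) ((snd G X).left ∣_ U) w).base ∧
        (Mono (lift a.act (snd G X)) →
          IsPullback (a.act.left.resLE U ((snd G X).left ⁻¹ᵁ U) hU.ge) ((snd G X).left ∣_ U) p p ∧ Flat p) := by
  let Γ := actGrpd a
  have : Flat Γ.s := Groth.Calg4.MonoFactor.snd_left_prop @Flat X inferInstance
  have : LocallyOfFiniteType Γ.s := Groth.Calg4.MonoFactor.snd_left_prop @LocallyOfFiniteType X inferInstance
  have : QuasiCompact Γ.s := Groth.Calg4.MonoFactor.snd_left_prop @QuasiCompact X inferInstance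
  have : LocallyOfFiniteType Γ.pU := ‹LocallyOfFiniteType X.hom›
  have : QuasiCompact Γ.pU := ‹QuasiCompact X.hom›
  have : LocallyQuasiFinite Γ.j := by
    rw [actGrpd_j]; exact lqf_graph a hF
  have : LocallyOfFiniteType Γ.j := by
    have : LocallyOfFiniteType (Γ.j ≫ pullback.snd Γ.pU Γ.pU) := by
      rw [Grpd.GroupoidScheme.j, pullback.lift_snd]; infer_instance
    exact locallyOfFiniteType_of_comp Γ.j (pullback.snd Γ.pU Γ.pU)
  obtain ⟨W, hW, hd, V, p, w, q, h1, h2, h3, h4, h5, h6, h7, h8, h9, h10⟩ := main Γ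
  refine ⟨W, hW, hd, V, p, w, q, h1, h2, h3, h4, h5, h6, h7, h8, h9, fun hm => h10 ?_⟩
  rw [actGrpd_j]
  exact inferInstanceAs (Mono ((Over.forget S).map (Groth.Calg4.MonoFactor.graph a)))

end Groth.GrpQDense
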