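import Mathlib
import Groth.Agent.GrpQDense.Main
import Groth.Agent.FlatMorOne.GenFlatScheme

/-!
# The stabilizer along arrows, and the kernel pair of `(t, s)`
-/

set_option autoImplicit false

universe u

open AlgebraicGeometry CategoryTheory CategoryTheory.Limits

noncomputable section

namespace Groth.GrpQDense

open Groth.GrpdBasic

variable {S : Scheme.{u}} (G : Grpd.GroupoidScheme S)

/-- The underlying arrow of a point of the stabilizer. -/
abbrev stArr : G.stabilizer ⟶ G.R := pullback.fst G.j G.diag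

theorem stArr_t : stArr G ≫ G.t = G.stabilizerToU := by
  have h := congrArg (· ≫ pullback.fst G.pU G.pU) (pullback.condition (f := G.j) (g := G.diag))
  simp only [Category.assoc, j_fst, diag_fst, Category.comp_id] at h
  exact h

theorem stArr_s : stArr G ≫ G.s = G.stabilizerToU := by
  have h := congrArg (· ≫ pullback.snd G.pU G.pU) (pullback.condition (f := G.j) (g := G.diag))
  simp only [Category.assoc, j_snd, diag_snd, Category.comp_id] at h
  exact h

theorem stab_ext {T : Scheme.{u}} {x y : T ⟶ G.stabilizer} (h : x ≫ stArr G = y ≫ stArr G) : x = y := by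
  refine pullback.hom_ext h ?_
  have e := congrArg (· ≫ G.s) h
  simp only [Category.assoc, stArr_s] at e
  exact e

/-- A point of the stabilizer. -/
def stMk {T : Scheme.{u}} (α : T ⟶ G.R) (h : α ≫ G.t = α ≫ G.s) : T ⟶ G.stabilizer :=
  pullback.lift α (α ≫ G.s) (by
    apply pullback.hom_ext
    · simp only [Category.assoc, j_fst, diag_fst, Category.comp_id]; exact h
    · simp only [Category.assoc, j_snd, diag_snd, Category.comp_id])

@[reassoc]
theorem stMk_arr {T : Scheme.{u}} (α : T ⟶ G.R) (h : α ≫ G.t = α ≫ G.s) : stMk G α h ≫ stArr G = α :=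
  pullback.lift_fst _ _ _

@[reassoc]
theorem stMk_toU {T : Scheme.{u}} (α : T ⟶ G.R) (h : α ≫ G.t = α ≫ G.s) :
    stMk G α h ≫ G.stabilizerToU = α ≫ G.s := pullback.lift_snd _ _ _

variable {T : Scheme.{u}} (a : T ⟶ G.R)

theorem st_cond_t : (pullback.snd (a ≫ G.t) G.stabilizerToU ≫ stArr G) ≫ G.s =
    (pullback.fst (a ≫ G.t) G.stabilizerToU ≫ a) ≫ G.t := by
  rw [Category.assoc, stArr_s, Category.assoc]; exact pullback.condition.symm

theorem st_cond_t' : ((pullback.fst (a ≫ G.t) G.stabilizerToU ≫ a) ≫ G.i) ≫ G.s =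
    comp G (pullback.snd (a ≫ G.t) G.stabilizerToU ≫ stArr G) (pullback.fst _ _ ≫ a) (st_cond_t G a) ≫ G.t := by
  rw [comp_t, Category.assoc _ G.i, G.i_s, Category.assoc _ (stArr G), stArr_t, Category.assoc]
  exact pullback.condition

theorem st_cond_s : (pullback.snd (a ≫ G.s) G.stabilizerToU ≫ stArr G) ≫ G.s =
    ((pullback.fst (a ≫ G.s) G.stabilizerToU ≫ a) ≫ G.i) ≫ G.t := by
  rw [Category.assoc, stArr_s, Category.assoc _ G.i, G.i_t, Category.assoc]; exact pullback.condition.symm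

theorem st_cond_s' : (pullback.fst (a ≫ G.s) G.stabilizerToU ≫ a) ≫ G.s =
    comp G (pullback.snd (a ≫ G.s) G.stabilizerToU ≫ stArr G) ((pullback.fst _ _ ≫ a) ≫ G.i) (st_cond_s G a)
      ≫ G.t := by
  rw [comp_t, Category.assoc _ (stArr G), stArr_t, Category.assoc]
  exact pullback.condition

/-- Conjugation of loops, from the target to the source. -/
def conjS : pullback (a ≫ G.t) G.stabilizerToU ⟶ pullback (a ≫ G.s) G.stabilizerToU :=
  pullback.lift (pullback.fst _ _)
    (stMk G (comp G ((pullback.fst _ _ ≫ a) ≫ G.i) (comp G (pullback.snd _ _ ≫ stArr G)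
      (pullback.fst _ _ ≫ a) (st_cond_t G a)) (st_cond_t' G a)) (by
        rw [comp_t, comp_s, comp_s, Category.assoc _ G.i, G.i_t]))
    (by rw [stMk_toU, comp_s, comp_s, Category.assoc])

/-- Conjugation of loops, from the source to the target. -/
def conjT : pullback (a ≫ G.s) G.stabilizerToU ⟶ pullback (a ≫ G.t) G.stabilizerToU :=
  pullback.lift (pullback.fst _ _)
    (stMk G (comp G (pullback.fst _ _ ≫ a) (comp G (pullback.snd _ _ ≫ stArr G)
      ((pullback.fst _ _ ≫ a) ≫ G.i) (st_cond_s G a)) (st_cond_s' G a)) (by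
        rw [comp_t, comp_s, comp_s, Category.assoc _ G.i, G.i_s]))
    (by rw [stMk_toU, comp_s, comp_s, Category.assoc _ G.i, G.i_s, Category.assoc])

@[reassoc]
theorem conjS_fst : conjS G a ≫ pullback.fst _ _ = pullback.fst _ _ := pullback.lift_fst _ _ _

@[reassoc]
theorem conjT_fst : conjT G a ≫ pullback.fst _ _ = pullback.fst _ _ := pullback.lift_fst _ _ _

theorem conj_cancel_left (α g : T ⟶ G.R) (h1 : g ≫ G.s = α ≫ G.t) (h1' : g ≫ G.t = α ≫ G.t)
    (h2 : (α ≫ G.i) ≫ G.s = comp G g α h1 ≫ G.t)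
    (h3 : comp G (α ≫ G.i) (comp G g α h1) h2 ≫ G.s = (α ≫ G.i) ≫ G.t)
    (h4 : α ≫ G.s = comp G (comp G (α ≫ G.i) (comp G g α h1) h2) (α ≫ G.i) h3 ≫ G.t) :
    comp G α (comp G (comp G (α ≫ G.i) (comp G g α h1) h2) (α ≫ G.i) h3) h4 = g := by
  rw [comp_congr G h4 rfl (comp_assoc G _ _ _ h2 (by rw [comp_s, Category.assoc, G.i_t])),
    comp_congr G _ rfl (comp_congr G _ rfl (comp_cancel_inv G g α h1))]
  exact comp_inv_comp_cancel G α g (by rw [Category.assoc, G.i_s, h1'])

theorem conj_cancel_right (α g : T ⟶ G.R) (h1 : g ≫ G.s = (α ≫ G.i) ≫ G.t) (h1' : g ≫ G.t = α ≫ G.s)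
    (h2 : α ≫ G.s = comp G g (α ≫ G.i) h1 ≫ G.t)
    (h3 : comp G α (comp G g (α ≫ G.i) h1) h2 ≫ G.s = α ≫ G.t)
    (h4 : (α ≫ G.i) ≫ G.s = comp G (comp G α (comp G g (α ≫ G.i) h1) h2) α h3 ≫ G.t) :
    comp G (α ≫ G.i) (comp G (comp G α (comp G g (α ≫ G.i) h1) h2) α h3) h4 = g := by
  rw [comp_congr G h4 rfl (comp_assoc G _ _ _ h2 (by rw [comp_s, Category.assoc, G.i_s])),
    comp_congr G _ rfl (comp_congr G _ rfl (comp_inv_cancel G g α h1))]
  exact inv_comp_cancel G α g h1'.symm

theorem conjS_conjT : conjS G a ≫ conjT G a = 𝟙 _ := by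
  refine pullback.hom_ext (by rw [Category.assoc, conjT_fst, conjS_fst, Category.id_comp]) (stab_ext G ?_)
  rw [Category.id_comp, Category.assoc, Category.assoc, conjT, pullback.lift_snd_assoc, stMk_arr, precomp_comp]
  refine (comp_congr G _ ?_ ?_).trans (conj_cancel_left G
    (pullback.fst (a ≫ G.t) G.stabilizerToU ≫ a) (pullback.snd (a ≫ G.t) G.stabilizerToU ≫ stArr G)
    (st_cond_t G a) ?_ (st_cond_t' G a) ?_ ?_)
  rotate_left 2
  · rw [Category.assoc _ (stArr G), stArr_t, Category.assoc]; exact pullback.condition.symm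
  · rw [comp_s, comp_s, Category.assoc _ G.i, G.i_t]
  · rw [comp_t, comp_t, Category.assoc _ G.i, G.i_t]
  · rw [← Category.assoc, conjS_fst]
  · rw [precomp_comp]
    refine comp_congr G _ ?_ ?_
    · rw [conjS, pullback.lift_snd_assoc, stMk_arr]
    · rw [← Category.assoc, ← Category.assoc, conjS_fst]

theorem conjT_conjS : conjT G a ≫ conjS G a = 𝟙 _ := by
  refine pullback.hom_ext (by rw [Category.assoc, conjS_fst, conjT_fst, Category.id_comp]) (stab_ext G ?_)
  rw [Category.id_comp, Category.assoc, Category.assoc, conjS, pullback.lift_snd_assoc, stMk_arr, precomp_comp]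
  refine (comp_congr G _ ?_ ?_).trans (conj_cancel_right G
    (pullback.fst (a ≫ G.s) G.stabilizerToU ≫ a) (pullback.snd (a ≫ G.s) G.stabilizerToU ≫ stArr G)
    (st_cond_s G a) ?_ (st_cond_s' G a) ?_ ?_)
  rotate_left 2
  · rw [Category.assoc _ (stArr G), stArr_t, Category.assoc]; exact pullback.condition.symm
  · rw [comp_s, comp_s, Category.assoc _ G.i, G.i_s]
  · rw [comp_t, comp_t, Category.assoc _ G.i, G.i_s]
  · rw [← Category.assoc, ← Category.assoc, conjT_fst]
  · rw [precomp_comp]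
    refine comp_congr G _ ?_ ?_
    · rw [conjT, pullback.lift_snd_assoc, stMk_arr]
    · rw [← Category.assoc, conjT_fst]

theorem kp_cond_t : pullback.fst (a ≫ G.j) G.j ≫ a ≫ G.t = pullback.snd (a ≫ G.j) G.j ≫ G.t := by
  have h := congrArg (· ≫ pullback.fst G.pU G.pU) (pullback.condition (f := a ≫ G.j) (g := G.j))
  simp only [Category.assoc, j_fst] at h
  exact h

theorem kp_cond_s : pullback.fst (a ≫ G.j) G.j ≫ a ≫ G.s = pullback.snd (a ≫ G.j) G.j ≫ G.s := by
  have h := congrArg (· ≫ pullback.snd G.pU G.pU) (pullback.condition (f := a ≫ G.j) (g := G.j))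
  simp only [Category.assoc, j_snd] at h
  exact h

theorem kp_cond' : ((pullback.fst (a ≫ G.j) G.j ≫ a) ≫ G.i) ≫ G.s = pullback.snd (a ≫ G.j) G.j ≫ G.t := by
  rw [Category.assoc _ G.i, G.i_s, Category.assoc, kp_cond_t]

theorem st_cond_s'' : (pullback.fst (a ≫ G.s) G.stabilizerToU ≫ a) ≫ G.s =
    (pullback.snd (a ≫ G.s) G.stabilizerToU ≫ stArr G) ≫ G.t := by
  rw [Category.assoc, Category.assoc, stArr_t]; exact pullback.condition

/-- Pairs of parallel arrows as an arrow and a loop. -/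
def kpTo : pullback (a ≫ G.j) G.j ⟶ pullback (a ≫ G.s) G.stabilizerToU :=
  pullback.lift (pullback.fst _ _)
    (stMk G (comp G ((pullback.fst _ _ ≫ a) ≫ G.i) (pullback.snd _ _) (kp_cond' G a)) (by
      rw [comp_t, comp_s, Category.assoc _ G.i, G.i_t, Category.assoc, kp_cond_s]))
    (by rw [stMk_toU, comp_s, kp_cond_s])

/-- An arrow and a loop as parallel arrows. -/
def kpFrom : pullback (a ≫ G.s) G.stabilizerToU ⟶ pullback (a ≫ G.j) G.j :=
  pullback.lift (pullback.fst _ _)
    (comp G (pullback.fst _ _ ≫ a) (pullback.snd _ _ ≫ stArr G) (st_cond_s'' G a))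
    (by
      apply pullback.hom_ext
      · simp only [Category.assoc, j_fst, comp_t]
      · simp only [Category.assoc, j_snd, comp_s, stArr_s]
        exact pullback.condition)

@[reassoc]
theorem kpTo_fst : kpTo G a ≫ pullback.fst _ _ = pullback.fst _ _ := pullback.lift_fst _ _ _

theorem isIso_kpTo : IsIso (kpTo G a) := by
  refine ⟨kpFrom G a, ?_, ?_⟩
  · refine pullback.hom_ext (by rw [Category.assoc, kpFrom, pullback.lift_fst, kpTo_fst, Category.id_comp]) ?_
    rw [Category.id_comp, Category.assoc, kpFrom, pullback.lift_snd, precomp_comp]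
    refine (comp_congr G _ (?_ : _ = pullback.fst _ _ ≫ a)
      (?_ : _ = comp G ((pullback.fst _ _ ≫ a) ≫ G.i) (pullback.snd _ _) (kp_cond' G a))).trans
      (comp_inv_comp_cancel G _ _ (kp_cond' G a))
    · rw [← Category.assoc, kpTo_fst]
    · rw [kpTo, pullback.lift_snd_assoc, stMk_arr]
  · refine pullback.hom_ext (by rw [Category.assoc, kpTo_fst, kpFrom, pullback.lift_fst, Category.id_comp])
      (stab_ext G ?_)
    rw [Category.id_comp, Category.assoc, Category.assoc, kpTo, pullback.lift_snd_assoc, stMk_arr, precomp_comp]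
    refine (comp_congr G _ (?_ : _ = (pullback.fst _ _ ≫ a) ≫ G.i)
      (?_ : _ = comp G (pullback.fst _ _ ≫ a) (pullback.snd _ _ ≫ stArr G) (st_cond_s'' G a))).trans
      (inv_comp_cancel G _ _ (st_cond_s'' G a))
    · simp only [kpFrom, ← Category.assoc, pullback.lift_fst]
    · rw [kpFrom, pullback.lift_snd]

theorem pullback_j_iff (P : MorphismProperty Scheme.{u}) [P.RespectsIso] :
    P (pullback.fst (a ≫ G.j) G.j) ↔ P (pullback.fst (a ≫ G.s) G.stabilizerToU) := by
  have := isIso_kpTo G a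
  conv_lhs => rw [← kpTo_fst G a]
  exact P.cancel_left_of_respectsIso _ _

theorem pullback_stab_iff (P : MorphismProperty Scheme.{u}) [P.RespectsIso] :
    P (pullback.fst (a ≫ G.t) G.stabilizerToU) ↔ P (pullback.fst (a ≫ G.s) G.stabilizerToU) := by
  have : IsIso (conjS G a) := ⟨conjT G a, conjS_conjT G a, conjT_conjS G a⟩
  conv_lhs => rw [← conjS_fst G a]
  exact P.cancel_left_of_respectsIso _ _

/-- The largest open over which a morphism is flat. -/
def flatOver {X Y : Scheme.{u}} (f : X ⟶ Y) : Y.Opens := sSup {O | Flat (f ∣_ O)}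

theorem le_flatOver {X Y : Scheme.{u}} {f : X ⟶ Y} {O : Y.Opens} (h : Flat (f ∣_ O)) :
    O ≤ flatOver f := le_sSup h

theorem flat_flatOver {X Y : Scheme.{u}} (f : X ⟶ Y) : Flat (f ∣_ flatOver f) := by
  let L := flatOver f
  refine IsZariskiLocalAtTarget.of_iSup_eq_top (P := @Flat)
    (fun O : {O : Y.Opens // Flat (f ∣_ O)} => L.ι ⁻¹ᵁ O.1) ?_ fun O => ?_
  · refine top_le_iff.1 fun x _ => ?_
    obtain ⟨O, hO, hxO⟩ := TopologicalSpace.Opens.mem_sSup.1 x.2
    exact TopologicalSpace.Opens.mem_iSup.2 ⟨⟨O, hO⟩, hxO⟩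
  · rw [MorphismProperty.arrow_mk_iso_iff @Flat (morphismRestrictRestrict f L (L.ι ⁻¹ᵁ O.1))]
    have e : L.ι ''ᵁ (L.ι ⁻¹ᵁ O.1) = O.1 := by
      rw [Scheme.Hom.image_preimage_eq_opensRange_inf, Scheme.Opens.opensRange_ι,
        inf_eq_right.2 (le_flatOver O.2)]
    rw [MorphismProperty.arrow_mk_iso_iff @Flat (morphismRestrictEq f e)]
    exact O.2

/-- Over the flat locus, base changes of the stabilizer are flat. -/
theorem flat_pullback_stab {T : Scheme.{u}} (b : T ⟶ G.U) (hb : ∀ x, b x ∈ flatOver G.stabilizerToU) :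
    Flat (pullback.fst b G.stabilizerToU) := by
  let L := flatOver G.stabilizerToU
  let b' : T ⟶ L.toScheme := IsOpenImmersion.lift L.ι b (by
    rintro _ ⟨x, rfl⟩
    rw [Scheme.Opens.range_ι]
    exact hb x)
  have hb' : b' ≫ L.ι = b := IsOpenImmersion.lift_fac _ _ _
  have h := ((IsPullback.of_hasPullback b' (G.stabilizerToU ∣_ L)).flip.paste_horiz
      (isPullback_morphismRestrict G.stabilizerToU L).flip).flip
  have h' : Flat (pullback.fst b' (G.stabilizerToU ∣_ L)) :=
    MorphismProperty.pullback_fst _ _ (flat_flatOver G.stabilizerToU)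
  rw [← h.isoPullback_hom_fst, MorphismProperty.cancel_left_of_respectsIso @Flat] at h'
  have e : pullback.fst b G.stabilizerToU =
      (pullback.congrHom hb'.symm rfl).hom ≫ pullback.fst (b' ≫ L.ι) G.stabilizerToU := by
    rw [pullback.congrHom_hom]
    exact ((pullback.lift_fst _ _ _).trans (Category.comp_id _)).symm
  rw [e, MorphismProperty.cancel_left_of_respectsIso @Flat]
  exact h'

/-- The flat locus of the stabilizer is invariant. -/
theorem flatOver_invariant [IsNoetherian G.R] [IsNoetherian G.U] [Flat G.t] [LocallyOfFinitePresentation G.t]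
    (r : G.R) : G.s r ∈ flatOver G.stabilizerToU ↔ G.t r ∈ flatOver G.stabilizerToU := by
  suffices h : ∀ r : G.R, G.s r ∈ flatOver G.stabilizerToU → G.t r ∈ flatOver G.stabilizerToU by
    refine ⟨h r, fun hr => ?_⟩
    have := h (G.i r) (by rwa [← Scheme.Hom.comp_apply, G.i_s])
    rwa [← Scheme.Hom.comp_apply, G.i_t] at this
  intro r hr
  let A := G.s ⁻¹ᵁ flatOver G.stabilizerToU
  let L' : G.U.Opens := ⟨⇑G.t '' A, G.t.isOpenMap _ A.2⟩
  refine le_flatOver (O := L') ?_ ⟨r, hr, rfl⟩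
  have hA : A ≤ G.t ⁻¹ᵁ L' := fun x hx => ⟨x, hx, rfl⟩
  let τ : A.toScheme ⟶ L'.toScheme := G.t.resLE L' A hA
  have hτι : τ ≫ L'.ι = A.ι ≫ G.t := Scheme.Hom.resLE_comp_ι _ _
  have : Surjective τ := ⟨fun y => by
    obtain ⟨x, hx, hxy⟩ := y.2
    refine ⟨⟨x, hx⟩, Subtype.ext ?_⟩
    refine Eq.trans ?_ hxy
    exact congr(($hτι).base ⟨x, hx⟩)⟩
  have : Flat τ := by
    have : Flat (τ ≫ L'.ι) := hτι ▸ inferInstance
    exact MorphismProperty.of_postcomp (W := @Flat) (W' := @IsOpenImmersion) τ L'.ι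
      (inferInstanceAs (IsOpenImmersion L'.ι)) ‹_›
  have hS : Flat (pullback.fst (A.ι ≫ G.s) G.stabilizerToU) := flat_pullback_stab G _ fun x => x.2
  have hT : Flat (pullback.fst (A.ι ≫ G.t) G.stabilizerToU) := (pullback_stab_iff G A.ι @Flat).2 hS
  have h := ((IsPullback.of_hasPullback τ (G.stabilizerToU ∣_ L')).flip.paste_horiz
      (isPullback_morphismRestrict G.stabilizerToU L').flip).flip
  have e : pullback.fst (τ ≫ L'.ι) G.stabilizerToU =
      (pullback.congrHom hτι rfl).hom ≫ pullback.fst (A.ι ≫ G.t) G.stabilizerToU := by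
    rw [pullback.congrHom_hom]
    exact ((pullback.lift_fst _ _ _).trans (Category.comp_id _)).symm
  have : Flat (pullback.fst τ (G.stabilizerToU ∣_ L')) := by
    rw [← h.isoPullback_hom_fst, MorphismProperty.cancel_left_of_respectsIso @Flat, e,
      MorphismProperty.cancel_left_of_respectsIso @Flat]
    exact hT
  have : Flat (pullback.fst τ (G.stabilizerToU ∣_ L') ≫ τ) := inferInstance
  rw [pullback.condition] at this
  exact Groth.FlatMor2.flat_of_comp_surjective (pullback.snd τ (G.stabilizerToU ∣_ L')) _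

end Groth.GrpQDense
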