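import Mathlib
import Groth.Agent.GrpQDense.Stab
import Groth.Agent.GrpQDense.Action
import Groth.Agent.GitQuot.FppfSourceScheme
import Groth.Agent.Calg4.MonoFactor.Main

/-!
# Flat quotients on a dense open for groupoids with generically flat stabilizer
-/

set_option autoImplicit false

universe u

open AlgebraicGeometry CategoryTheory CategoryTheory.Limits

noncomputable section

namespace Groth.GrpQDense

open Groth.GrpdBasic

variable {S : Scheme.{u}}

/-- `(t, s)` of the groupoid on the flat locus of the stabilizer has flat kernel pair projection. -/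
theorem flat_fst_jj_restrict (G : Grpd.GroupoidScheme S) (L : G.U.Opens)
    (hL : G.s ⁻¹ᵁ L = G.t ⁻¹ᵁ L) (hflat : ∀ x ∈ L, x ∈ flatOver G.stabilizerToU) :
    Flat (pullback.fst (restrict G L hL).j (restrict G L hL).j) := by
  let G₁ := restrict G L hL
  let A := G.s ⁻¹ᵁ L
  let M : pullback G₁.pU G₁.pU ⟶ pullback G.pU G.pU :=
    pullback.map _ _ _ _ L.ι L.ι (𝟙 S) (Category.comp_id _) (Category.comp_id _)
  have hM : G₁.j ≫ M = A.ι ≫ G.j := by
    apply pullback.hom_ext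
    · erw [Category.assoc, pullback.lift_fst, pullback.lift_fst_assoc, Category.assoc, j_fst]
      exact restrictT_ι G L hL
    · simp only [M, pullback.map]
      rw [Category.assoc, pullback.lift_snd, ← Category.assoc,
        show G₁.j ≫ pullback.snd G₁.pU G₁.pU = G₁.s from j_snd G₁, Category.assoc, j_snd]
      exact morphismRestrict_ι G.s L
  have : Flat (pullback.fst (A.ι ≫ G.j) G.j) :=
    (pullback_j_iff G A.ι @Flat).2 (flat_pullback_stab G _ fun x => hflat _ x.2)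
  -- restrict the second arrow
  let ψ : pullback (A.ι ≫ G.j) (A.ι ≫ G.j) ⟶ pullback (A.ι ≫ G.j) G.j :=
    pullback.map _ _ _ _ (𝟙 _) A.ι (𝟙 _) (by simp) (by simp)
  have h1 : Flat (pullback.fst (A.ι ≫ G.j) (A.ι ≫ G.j)) := by
    have : IsOpenImmersion ψ :=
      MorphismProperty.pullbackMap (P := @IsOpenImmersion) inferInstance inferInstance (by simp) rfl
    have e : pullback.fst (A.ι ≫ G.j) (A.ι ≫ G.j) = ψ ≫ pullback.fst _ _ := by
      simp only [ψ, pullback.map, pullback.lift_fst, Category.comp_id]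
    rw [e]; infer_instance
  have hh := IsPullback.of_isLimit (pullbackIsPullbackOfCompMono G₁.j G₁.j M)
  let e : pullback G₁.j G₁.j ≅ pullback (A.ι ≫ G.j) (A.ι ≫ G.j) :=
    hh.isoPullback ≪≫ pullback.congrHom hM hM
  have he : e.hom ≫ pullback.fst _ _ = pullback.fst G₁.j G₁.j := by
    simp only [e, Iso.trans_hom, Category.assoc, pullback.congrHom_hom, pullback.map, pullback.lift_fst,
      Category.comp_id]
    exact hh.isoPullback_hom_fst
  rw [← he, MorphismProperty.cancel_left_of_respectsIso @Flat]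
  exact h1

/-- Quotient by the image relation on a dense open. -/
theorem main_flat [IsNoetherian S] (G : Grpd.GroupoidScheme S)
    [Flat G.s] [LocallyOfFiniteType G.s] [QuasiCompact G.s] [LocallyOfFiniteType G.pU] [QuasiCompact G.pU]
    (hG : Flat G.stabilizerToU ∨ IsReduced G.U) :
    ∃ (U : G.U.Opens) (hU : G.t ⁻¹ᵁ U = G.s ⁻¹ᵁ U), Dense (U : Set G.U) ∧
      ∃ (V : Scheme.{u}) (p : (U : Scheme.{u}) ⟶ V)
        (w : G.t.resLE U (G.s ⁻¹ᵁ U) hU.ge ≫ p = (G.s ∣_ U) ≫ p) (q : V ⟶ S),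
        Nonempty (IsColimit (Cofork.ofπ p w)) ∧ p ≫ q = U.ι ≫ G.pU ∧
        Surjective p ∧ Flat p ∧ LocallyOfFinitePresentation p ∧ LocallyOfFiniteType q ∧ QuasiCompact q := by
  have : IsLocallyNoetherian G.U := LocallyOfFiniteType.isLocallyNoetherian G.pU
  have : CompactSpace G.U := QuasiCompact.compactSpace_of_compactSpace G.pU
  have : IsNoetherian G.U := ⟨⟩
  have : IsLocallyNoetherian G.R := LocallyOfFiniteType.isLocallyNoetherian G.s
  have : CompactSpace G.R := QuasiCompact.compactSpace_of_compactSpace G.s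
  have : IsNoetherian G.R := ⟨⟩
  have : Flat G.t := G.i_s ▸ inferInstance
  have : LocallyOfFinitePresentation G.t := G.i_s ▸ inferInstance
  have : LocallyOfFiniteType G.j := by
    have : LocallyOfFiniteType (G.j ≫ pullback.snd G.pU G.pU) := by rw [j_snd]; infer_instance
    exact locallyOfFiniteType_of_comp G.j (pullback.snd G.pU G.pU)
  have : LocallyOfFiniteType (pullback.fst G.pU G.pU) := inferInstance
  have : IsLocallyNoetherian (pullback G.pU G.pU) := LocallyOfFiniteType.isLocallyNoetherian (pullback.fst G.pU G.pU)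
  have : QuasiCompact G.j := inferInstance
  have : LocallyOfFiniteType G.stabilizerToU := MorphismProperty.pullback_snd (P := @LocallyOfFiniteType) _ _ ‹_›
  have : QuasiCompact G.stabilizerToU := MorphismProperty.pullback_snd (P := @QuasiCompact) _ _ ‹_›
  let L := flatOver G.stabilizerToU
  have hL : G.s ⁻¹ᵁ L = G.t ⁻¹ᵁ L := TopologicalSpace.Opens.ext (Set.ext fun r => flatOver_invariant G r)
  have hLd : Dense (L : Set G.U) := by
    rcases hG with h | h
    · have : (⊤ : G.U.Opens) ≤ L := le_flatOver (IsZariskiLocalAtTarget.restrict (P := @Flat) h _)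
      exact dense_univ.mono fun x _ => this trivial
    · obtain ⟨O, hO, hOf, -⟩ := Groth.FlatMorOne.exists_dense_flat_finitePresentation G.stabilizerToU
      exact hO.mono (le_flatOver hOf)
  let G₁ := restrict G L hL
  have : IsLocallyNoetherian L.toScheme := isLocallyNoetherian_of_isOpenImmersion L.ι
  have : CompactSpace L.toScheme :=
    isCompact_iff_compactSpace.mp (TopologicalSpace.NoetherianSpace.isCompact _)
  have : Flat G₁.s := IsZariskiLocalAtTarget.restrict (P := @Flat) ‹_› _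
  have : LocallyOfFinitePresentation G₁.s := IsZariskiLocalAtTarget.restrict (P := @LocallyOfFinitePresentation) inferInstance _
  have : QuasiCompact G₁.s := IsZariskiLocalAtTarget.restrict (P := @QuasiCompact) ‹_› _
  have : LocallyOfFiniteType G₁.pU := inferInstanceAs (LocallyOfFiniteType (L.ι ≫ G.pU))
  have : QuasiCompact G₁.pU := inferInstanceAs (QuasiCompact (L.ι ≫ G.pU))
  have : LocallyOfFiniteType G₁.j := by
    have : LocallyOfFiniteType (G₁.j ≫ pullback.snd G₁.pU G₁.pU) := by rw [j_snd]; infer_instance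
    exact locallyOfFiniteType_of_comp G₁.j (pullback.snd G₁.pU G₁.pU)
  have : LocallyOfFiniteType (pullback.fst G₁.pU G₁.pU) := inferInstance
  have : IsLocallyNoetherian (pullback G₁.pU G₁.pU) :=
    LocallyOfFiniteType.isLocallyNoetherian (pullback.fst G₁.pU G₁.pU)
  have : LocallyOfFinitePresentation G₁.j := inferInstance
  have hjj : Flat (pullback.fst G₁.j G₁.j) := flat_fst_jj_restrict G L hL fun x hx => hx
  obtain ⟨Y, ψ, τ, hψs, hψf, hψl, hτm, hψτ⟩ := Groth.Calg4.MonoFactor.exists_factorisation G₁.j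
  -- the image groupoid
  let sY : Y ⟶ L.toScheme := τ ≫ pullback.snd G₁.pU G₁.pU
  let tY : Y ⟶ L.toScheme := τ ≫ pullback.fst G₁.pU G₁.pU
  have hψsY : ψ ≫ sY = G₁.s := by rw [← Category.assoc, hψτ, j_snd]
  have hψtY : ψ ≫ tY = G₁.t := by rw [← Category.assoc, hψτ, j_fst]
  have hjY : ∀ {T : Scheme.{u}} {a b : T ⟶ Y}, a ≫ tY = b ≫ tY → a ≫ sY = b ≫ sY → a = b := by
    intro T a b h1 h2
    rw [← cancel_mono τ]
    exact pullback.hom_ext (by simpa [tY] using h1) (by simpa [sY] using h2)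
  obtain ⟨iY, hiY⟩ := Groth.Calg4.MonoFactor.exists_desc ψ
    (τ ≫ (pullbackSymmetry G₁.pU G₁.pU).hom) (G₁.i ≫ ψ) τ (by
      rw [← Category.assoc, hψτ, Category.assoc, hψτ]
      apply pullback.hom_ext
      · simp [G₁.i_t]
      · simp [G₁.i_s])
  let P₁ := pullback G₁.s G₁.t
  let P₂ := pullback sY tY
  let ψψ : P₁ ⟶ P₂ := pullback.map _ _ _ _ ψ ψ (𝟙 _) (by rw [Category.comp_id, hψsY]) (by rw [Category.comp_id, hψtY])
  have : Flat ψψ := MorphismProperty.pullbackMap (P := @Flat) hψf hψf hψsY.symm hψtY.symm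
  have : Surjective ψψ := MorphismProperty.pullbackMap (P := @Surjective) hψs hψs hψsY.symm hψtY.symm
  have : LocallyOfFinitePresentation ψψ :=
    MorphismProperty.pullbackMap (P := @LocallyOfFinitePresentation) hψl hψl hψsY.symm hψtY.symm
  have hts : tY ≫ G₁.pU = sY ≫ G₁.pU := by
    simp only [sY, tY, Category.assoc, pullback.condition]
  have hP : (pullback.fst sY tY ≫ tY) ≫ G₁.pU = (pullback.snd sY tY ≫ sY) ≫ G₁.pU := by
    rw [Category.assoc (pullback.fst sY tY) tY, hts, ← Category.assoc, pullback.condition,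
      Category.assoc (pullback.snd sY tY) tY, hts, ← Category.assoc]
  obtain ⟨cY, hcY⟩ := Groth.Calg4.MonoFactor.exists_desc ψψ
    (pullback.lift (pullback.fst sY tY ≫ tY) (pullback.snd sY tY ≫ sY) hP) (G₁.c ≫ ψ) τ (by
      rw [Category.assoc, hψτ]
      apply pullback.hom_ext
      · simp only [Category.assoc, pullback.lift_fst, ψψ, pullback.lift_fst_assoc, j_fst, c_t]
        rw [hψtY]
      · simp only [Category.assoc, pullback.lift_snd, ψψ, pullback.lift_snd_assoc, j_snd, c_s]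
        rw [hψsY])
  have hsO : sY ≫ G₁.pU = τ ≫ pullback.fst G₁.pU G₁.pU ≫ G₁.pU := by
    simp only [sY, Category.assoc, pullback.condition]
  let Y₁ : Grpd.GroupoidScheme S := ofMono G₁.pU (τ ≫ pullback.fst G₁.pU G₁.pU ≫ G₁.pU) sY tY hsO
    (Category.assoc _ _ _) hjY (G₁.e ≫ ψ) iY cY
    (by rw [Category.assoc, hψsY, G₁.e_s]) (by rw [Category.assoc, hψtY, G₁.e_t])
    (by rw [← Category.assoc, hiY]; simp [tY])
    (by rw [← Category.assoc, hiY]; simp [sY])
    (by rw [← Category.assoc cY, hcY, pullback.lift_snd])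
    (by rw [← Category.assoc cY, hcY, pullback.lift_fst])
  have : Flat (ψ ≫ Y₁.s) := by rw [show ψ ≫ Y₁.s = G₁.s from hψsY]; infer_instance
  have : LocallyOfFinitePresentation (ψ ≫ Y₁.s) := by rw [show ψ ≫ Y₁.s = G₁.s from hψsY]; infer_instance
  have : QuasiCompact (ψ ≫ Y₁.s) := by rw [show ψ ≫ Y₁.s = G₁.s from hψsY]; infer_instance
  have : Flat Y₁.s := Groth.FlatMor2.flat_of_comp_surjective ψ _
  have : LocallyOfFinitePresentation Y₁.s := Groth.GitQuot.FppfSource.locallyOfFinitePresentation_of_fppf ψ Y₁.s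
  have : QuasiCompact Y₁.s := Groth.FlatMor2.quasiCompact_of_comp_surjective ψ _
  have hjτ : Y₁.j = τ := by
    apply pullback.hom_ext
    · rw [j_fst]
    · rw [j_snd]
  have : Mono Y₁.j := hjτ ▸ hτm
  have : LocallyQuasiFinite Y₁.j := lqf_of_kernelPair _ inferInstance
  have : LocallyOfFiniteType Y₁.j := by
    have : LocallyOfFiniteType (Y₁.j ≫ pullback.snd Y₁.pU Y₁.pU) := by rw [j_snd]; infer_instance
    exact locallyOfFiniteType_of_comp Y₁.j (pullback.snd Y₁.pU Y₁.pU)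
  have : LocallyOfFiniteType Y₁.pU := inferInstanceAs (LocallyOfFiniteType G₁.pU)
  have : QuasiCompact Y₁.pU := inferInstanceAs (QuasiCompact G₁.pU)
  obtain ⟨W, hW, hWd, V, p, w, q, ⟨hcol⟩, hpq, hps, -, hpl, hql, hqc, -, -, hmono⟩ := main Y₁
  have hpf : Flat p := (hmono inferInstance).2
  -- back to `G`
  let U : G.U.Opens := L.ι ''ᵁ W
  have hUL : ∀ (x : G.U) (hx : x ∈ L), x ∈ U ↔ (⟨x, hx⟩ : L.toScheme) ∈ W := by
    intro x hx
    have := Scheme.Hom.apply_mem_image_iff L.ι (U := W) (x := (⟨x, hx⟩ : L.toScheme))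
    exact this
  have hUle : ∀ x, x ∈ U → x ∈ L := fun x hx => by
    have : x ∈ (L.ι ''ᵁ W : Set G.U) := hx
    rw [Scheme.Hom.coe_image] at this
    exact Set.mem_range.2 ((Set.image_subset_range _ _ this)) |> (by simpa using ·)
  have hWψ : ∀ r : (G.s ⁻¹ᵁ L).toScheme, G₁.t r ∈ W ↔ G₁.s r ∈ W := by
    intro r
    rw [← hψtY, ← hψsY]
    exact SetLike.ext_iff.1 hW (ψ r)
  have hsι : ∀ r : (G.s ⁻¹ᵁ L).toScheme, (G₁.s r).1 = G.s r.1 := fun r =>
    congr($(morphismRestrict_ι G.s L).base r)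
  have htι : ∀ r : (G.s ⁻¹ᵁ L).toScheme, (G₁.t r).1 = G.t r.1 := fun r =>
    congr($(restrictT_ι G L hL).base r)
  have hUinv : G.t ⁻¹ᵁ U = G.s ⁻¹ᵁ U := by
    ext r
    show G.t r ∈ U ↔ G.s r ∈ U
    by_cases hr : G.s r ∈ L
    · have hr' : G.t r ∈ L := (SetLike.ext_iff.1 hL r).1 hr
      rw [hUL _ hr', hUL _ hr,
        show (⟨G.t r, hr'⟩ : L.toScheme) = G₁.t ⟨r, hr⟩ from Subtype.ext (htι ⟨r, hr⟩).symm,
        show (⟨G.s r, hr⟩ : L.toScheme) = G₁.s ⟨r, hr⟩ from Subtype.ext (hsι ⟨r, hr⟩).symm]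
      exact hWψ ⟨r, hr⟩
    · exact iff_of_false (fun h => hr ((SetLike.ext_iff.1 hL r).2 (hUle _ h))) fun h => hr (hUle _ h)
  have hUd : Dense (U : Set G.U) := by
    refine dense_iff_inter_open.2 fun O hO hne => ?_
    obtain ⟨x, hxO, hxL⟩ := dense_iff_inter_open.1 hLd O hO hne
    obtain ⟨y, hyO, hyW⟩ := dense_iff_inter_open.1 hWd _ (hO.preimage L.ι.continuous) ⟨⟨x, hxL⟩, hxO⟩
    exact ⟨L.ι y, hyO, y, hyW, rfl⟩
  let θ : W.toScheme ≅ U.toScheme := L.ι.isoImage W
  have hθ : θ.hom ≫ U.ι = W.ι ≫ L.ι := L.ι.isoImage_hom_ι W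
  -- arrows over `U` cover the arrows of the image relation over `W`
  let A := G.s ⁻¹ᵁ U
  let μ : A.toScheme ⟶ (G.s ⁻¹ᵁ L).toScheme := G.R.homOfLE fun r hr => hUle _ hr
  let B := Y₁.s ⁻¹ᵁ W
  have hμι : μ ≫ (G.s ⁻¹ᵁ L).ι = A.ι := Scheme.homOfLE_ι _ _
  have hμ : ∀ x : A.toScheme, (μ ≫ ψ) x ∈ B := fun x => by
    show sY (ψ (μ x)) ∈ W
    rw [← Scheme.Hom.comp_apply, hψsY,
      show G₁.s (μ x) = (⟨G.s x.1, hUle _ x.2⟩ : L.toScheme) from Subtype.ext ((hsι (μ x)).trans (congrArg (fun z => G.s z) congr($(hμι).base x)))]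
    exact (hUL _ _).1 x.2
  let Ψ : A.toScheme ⟶ B.toScheme := IsOpenImmersion.lift B.ι (μ ≫ ψ) (by
    rintro _ ⟨x, rfl⟩
    rw [Scheme.Opens.range_ι]
    exact hμ x)
  have hΨ : Ψ ≫ B.ι = μ ≫ ψ := IsOpenImmersion.lift_fac _ _ _
  have sq : IsPullback Ψ μ B.ι ψ := IsOpenImmersion.isPullback _ _ _ _ hΨ.symm (by
    rw [Scheme.Opens.opensRange_ι]
    ext r
    constructor
    · intro (hr : sY (ψ r) ∈ W)
      rw [← Scheme.Hom.comp_apply, hψsY] at hr
      have hr' : G.s r.1 ∈ U := ⟨G₁.s r, hr, hsι r⟩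
      exact ⟨⟨r.1, hr'⟩, Subtype.ext (by simp [μ])⟩
    · rintro ⟨x, rfl⟩
      exact hμ x)
  have : Flat Ψ := MorphismProperty.of_isPullback (P := @Flat) sq.flip hψf
  have : Surjective Ψ := MorphismProperty.of_isPullback (P := @Surjective) sq.flip hψs
  have : Epi Ψ := Flat.epi_of_flat_of_surjective Ψ
  have hs' : (G.s ∣_ U) ≫ θ.inv = Ψ ≫ (Y₁.s ∣_ W) := by
    rw [← cancel_mono θ.hom, Category.assoc, θ.inv_hom_id, Category.comp_id, ← cancel_mono U.ι,
      morphismRestrict_ι, Category.assoc, hθ, Category.assoc, morphismRestrict_ι_assoc, reassoc_of% hΨ]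
    rw [show ψ ≫ Y₁.s ≫ L.ι = (ψ ≫ sY) ≫ L.ι from (Category.assoc _ _ _).symm, hψsY,
      show G₁.s ≫ L.ι = (G.s ⁻¹ᵁ L).ι ≫ G.s from morphismRestrict_ι G.s L, ← Category.assoc μ, hμι]
  have ht' : G.t.resLE U A hUinv.ge ≫ θ.inv = Ψ ≫ Y₁.t.resLE W B hW.ge := by
    rw [← cancel_mono θ.hom, Category.assoc, θ.inv_hom_id, Category.comp_id, ← cancel_mono U.ι,
      Scheme.Hom.resLE_comp_ι, Category.assoc, hθ, Category.assoc, Scheme.Hom.resLE_comp_ι_assoc,
      reassoc_of% hΨ]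
    rw [show ψ ≫ Y₁.t ≫ L.ι = (ψ ≫ tY) ≫ L.ι from (Category.assoc _ _ _).symm, hψtY,
      show G₁.t ≫ L.ι = (G.s ⁻¹ᵁ L).ι ≫ G.t from restrictT_ι G L hL, ← Category.assoc μ, hμι]
  have w' : G.t.resLE U A hUinv.ge ≫ θ.inv ≫ p = (G.s ∣_ U) ≫ θ.inv ≫ p := by
    rw [← Category.assoc, ht', ← Category.assoc (G.s ∣_ U), hs', Category.assoc, Category.assoc, w]
  have hcol' : IsColimit (Cofork.ofπ (θ.inv ≫ p) w') := by
    refine Cofork.IsColimit.mk' _ fun s => ?_
    have hk : Y₁.t.resLE W B hW.ge ≫ θ.hom ≫ s.π = (Y₁.s ∣_ W) ≫ θ.hom ≫ s.π := by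
      rw [← cancel_epi Ψ, ← Category.assoc Ψ, ← ht', ← Category.assoc Ψ, ← hs', Category.assoc,
        Iso.inv_hom_id_assoc, Category.assoc, Iso.inv_hom_id_assoc, s.condition]
    obtain ⟨m, hm⟩ := Cofork.IsColimit.desc' hcol (θ.hom ≫ s.π) hk
    refine ⟨m, ?_, fun {m'} hm' => ?_⟩
    · show (θ.inv ≫ p) ≫ m = s.π
      rw [Category.assoc, show p ≫ m = θ.hom ≫ s.π from hm, Iso.inv_hom_id_assoc]
    · refine Cofork.IsColimit.hom_ext hcol (Eq.trans ?_ hm.symm)
      show p ≫ m' = θ.hom ≫ s.π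
      rw [← hm']
      simp
  refine ⟨U, hUinv, hUd, V, θ.inv ≫ p, w', q, ⟨hcol'⟩, ?_, inferInstance, inferInstance, inferInstance,
    inferInstance, hqc⟩
  rw [Category.assoc, hpq]
  show θ.inv ≫ W.ι ≫ L.ι ≫ G.pU = U.ι ≫ G.pU
  rw [← Category.assoc W.ι, ← hθ, Category.assoc, θ.inv_hom_id_assoc]

end Groth.GrpQDense

namespace Groth.GrpQDense

open MonoidalCategory CartesianMonoidalCategory MonObj

theorem main_action_flat {S : Scheme.{u}} [IsNoetherian S] {G X : Over S} [GrpObj G]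
    [Flat G.hom] [LocallyOfFiniteType G.hom] [QuasiCompact G.hom] [LocallyOfFiniteType X.hom] [QuasiCompact X.hom]
    (a : AlgGrp.Action G X)
    (hF : Flat (pullback.snd (lift a.act (snd G X)) (lift (𝟙 X) (𝟙 X))).left ∨ IsReduced X.left) :
    ∃ (U : X.left.Opens) (hU : a.act.left ⁻¹ᵁ U = (snd G X).left ⁻¹ᵁ U), Dense (U : Set X.left) ∧
      ∃ (V : Scheme.{u}) (p : (U : Scheme.{u}) ⟶ V)
        (w : a.act.left.resLE U ((snd G X).left ⁻¹ᵁ U) hU.ge ≫ p = ((snd G X).left ∣_ U) ≫ p) (q : V ⟶ S),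
        Nonempty (IsColimit (Cofork.ofπ p w)) ∧ p ≫ q = U.ι ≫ X.hom ∧
        Surjective p ∧ Flat p ∧ LocallyOfFinitePresentation p ∧ LocallyOfFiniteType q ∧ QuasiCompact q := by
  let Γ := actGrpd a
  have : Flat Γ.s := Groth.Calg4.MonoFactor.snd_left_prop @Flat X inferInstance
  have : LocallyOfFiniteType Γ.s := Groth.Calg4.MonoFactor.snd_left_prop @LocallyOfFiniteType X inferInstance
  have : QuasiCompact Γ.s := Groth.Calg4.MonoFactor.snd_left_prop @QuasiCompact X inferInstance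
  have : LocallyOfFiniteType Γ.pU := ‹LocallyOfFiniteType X.hom›
  have : QuasiCompact Γ.pU := ‹QuasiCompact X.hom›
  refine main_flat Γ (hF.imp (fun h => ?_) id)
  have hp := (IsPullback.of_hasPullback (lift a.act (snd G X)) (lift (𝟙 X) (𝟙 X))).map (Over.forget S)
  have hd : (lift (𝟙 X) (𝟙 X) : X ⟶ X ⊗ X).left = Γ.diag := by
    apply pullback.hom_ext
    · refine (congrArg CommaMorphism.left (lift_fst (𝟙 X) (𝟙 X))).trans ?_
      exact (pullback.lift_fst _ _ _).symm
    · refine (congrArg CommaMorphism.left (lift_snd (𝟙 X) (𝟙 X))).trans ?_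
      exact (pullback.lift_snd _ _ _).symm
  have hj : (lift a.act (snd G X)).left = Γ.j := (actGrpd_j a).symm
  have hp' : IsPullback (pullback.fst (lift a.act (snd G X)) (lift (𝟙 X) (𝟙 X))).left
      (pullback.snd (lift a.act (snd G X)) (lift (𝟙 X) (𝟙 X))).left Γ.j Γ.diag := by
    rw [← hd, ← hj]; exact hp
  show Flat (pullback.snd Γ.j Γ.diag)
  rw [← hp'.isoPullback_inv_snd]
  exact MorphismProperty.comp_mem @Flat _ _ inferInstance h

end Groth.GrpQDense
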